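import Cfsg.Agent.StdAlt.Carm

/-!
# A chain of 3-cycles (helper110, cluster S2284-S2297)

`c`, `x`, `t` elements of a group, `X i` = the conjugate of `x` by `c ^ i` (up to sign). Relations inside a window of
length `W` and the periodicity of `t` give Carmichael's relations for `X 0, …, X (N - 1)`, `N ≤ 2 W - 3`.
-/

set_option autoImplicit false

namespace Cfsg.Agent.H110.Chain

open Equiv Equiv.Perm
open Cfsg.Agent.StdAlt.PermTypes (cyc)

variable {J : Type*} [Group J]

/-- the conjugates of `x`, with sign -/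
def X (c x : J) (e : ℤˣ) (i : ℕ) : J := c ^ i * x ^ (((e ^ i : ℤˣ)) : ℤ) * (c ^ i)⁻¹

/-- the conjugates of `t` -/
def T (c t : J) (i : ℕ) : J := c ^ i * t * (c ^ i)⁻¹

theorem X_zero (c x : J) (e : ℤˣ) : X c x e 0 = x := by simp [X]

theorem T_zero (c t : J) : T c t 0 = t := by simp [T]

theorem conj_zpow' (c x : J) (n : ℤ) : c * x ^ n * c⁻¹ = (c * x * c⁻¹) ^ n := (conj_zpow).symm

theorem X_succ (c x : J) (e : ℤˣ) (i : ℕ) : c * X c x e i * c⁻¹ = X c x e (i + 1) ^ (e : ℤ) := by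
  unfold X
  have h1 : (e ^ (i + 1) * e : ℤˣ) = e ^ i := by
    rw [pow_succ, mul_assoc (e ^ i) e e, Int.units_mul_self, mul_one]
  rw [← conj_zpow', ← zpow_mul, ← Units.val_mul, h1, pow_succ' c i, mul_inv_rev]
  simp only [mul_assoc]

theorem X_succ' (c x : J) (e : ℤˣ) (i : ℕ) : c * X c x e i ^ (e : ℤ) * c⁻¹ = X c x e (i + 1) := by
  rw [conj_zpow', X_succ, ← zpow_mul, ← Units.val_mul, Int.units_mul_self, Units.val_one, zpow_one]

theorem T_succ (c t : J) (i : ℕ) : c * T c t i * c⁻¹ = T c t (i + 1) := by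
  unfold T
  rw [pow_succ' c i, mul_inv_rev]
  group

theorem sq_swap {a b : J} (h : (a * b) ^ 2 = 1) : (b * a) ^ 2 = 1 := by
  have : (b * a) ^ 2 = a⁻¹ * (a * b) ^ 2 * a := by rw [pow_two, pow_two]; group
  rw [this, h]; group

theorem sq_e {a b : J} (e : ℤˣ) (h : (a ^ (e : ℤ) * b ^ (e : ℤ)) ^ 2 = 1) : (a * b) ^ 2 = 1 := by
  rcases Int.units_eq_one_or e with rfl | rfl
  · simpa using h
  · simp only [Units.val_neg, Units.val_one, zpow_neg, zpow_one] at h
    have h1 : (b * a) ^ 2 = 1 := by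
      have : (b * a) ^ 2 = ((a⁻¹ * b⁻¹) ^ 2)⁻¹ := by rw [pow_two, pow_two]; group
      rw [this, h, inv_one]
    exact sq_swap h1

theorem sq_conj (g a b : J) : (g * a * g⁻¹ * (g * b * g⁻¹)) ^ 2 = g * (a * b) ^ 2 * g⁻¹ := by
  rw [pow_two, pow_two]; group

theorem commute_conj {a b : J} (g : J) (h : Commute a b) : Commute (g * a * g⁻¹) (g * b * g⁻¹) := by
  have : g * a * g⁻¹ * (g * b * g⁻¹) = g * b * g⁻¹ * (g * a * g⁻¹) := by
    have h1 : g * a * g⁻¹ * (g * b * g⁻¹) = g * (a * b) * g⁻¹ := by group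
    have h2 : g * b * g⁻¹ * (g * a * g⁻¹) = g * (b * a) * g⁻¹ := by group
    rw [h1, h2, h.eq]
  exact this

theorem commute_of_e {a b : J} (e : ℤˣ) (h : Commute a (b ^ (e : ℤ))) : Commute a b := by
  rcases Int.units_eq_one_or e with rfl | rfl
  · simpa using h
  · simpa using h

variable {c x t : J} {e : ℤˣ}

theorem P_succ {i j : ℕ} (h : (X c x e i * X c x e j) ^ 2 = 1) :
    (X c x e (i + 1) * X c x e (j + 1)) ^ 2 = 1 := by
  apply sq_e e
  rw [← X_succ, ← X_succ, sq_conj, h]; group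

theorem P_add {i j : ℕ} (h : (X c x e i * X c x e j) ^ 2 = 1) (k : ℕ) :
    (X c x e (i + k) * X c x e (j + k)) ^ 2 = 1 := by
  induction k with
  | zero => exact h
  | succ k ih => exact P_succ ih

theorem Q_succ {i j : ℕ} (h : Commute (T c t i) (X c x e j)) : Commute (T c t (i + 1)) (X c x e (j + 1)) := by
  apply commute_of_e e
  rw [← X_succ, ← T_succ]
  exact commute_conj c h

theorem Q_add {i j : ℕ} (h : Commute (T c t i) (X c x e j)) (k : ℕ) :
    Commute (T c t (i + k)) (X c x e (j + k)) := by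
  induction k with
  | zero => exact h
  | succ k ih => exact Q_succ ih

theorem R_all (hR : t * x * t⁻¹ = X c x e 1) (i : ℕ) : T c t i * X c x e i * (T c t i)⁻¹ = X c x e (i + 1) := by
  induction i with
  | zero => rw [T_zero, X_zero]; exact hR
  | succ i ih =>
    rw [← X_succ' c x e i, ← X_succ' c x e (i + 1), ← T_succ, ← ih]
    simp only [← conj_zpow']
    group

/-- **Carmichael's relations from a window.** -/
theorem pairs {W N : ℕ} (hN : N + 3 ≤ 2 * W)
    (hP : ∀ d, 1 ≤ d → d < W → (X c x e 0 * X c x e d) ^ 2 = 1)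
    (hR : t * x * t⁻¹ = X c x e 1)
    (hQ : ∀ k, 1 ≤ k → k + 3 ≤ W → Commute (T c t k) (X c x e 0))
    (hc : Commute (c ^ N) t) {i j : ℕ} (hij : i < j) (hj : j < N) :
    (X c x e i * X c x e j) ^ 2 = 1 := by
  -- far commutation
  have far : ∀ d, W ≤ d → d < N → Commute (T c t 0) (X c x e d) := by
    intro d h1 h2
    have h3 : T c t 0 = T c t N := by
      rw [T_zero]
      unfold T
      rw [hc.eq]; group
    rw [h3]
    have h4 := Q_add (hQ (N - d) (by omega) (by omega)) d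
    rwa [zero_add, Nat.sub_add_cancel h2.le] at h4
  obtain ⟨d, rfl⟩ : ∃ d, j = i + d := ⟨j - i, by omega⟩
  -- induction on the distance
  induction d using Nat.strong_induction_on generalizing i with
  | _ d ih =>
    by_cases hd : d < W
    · have := P_add (hP d (by omega) hd) i
      rwa [zero_add, add_comm d i] at this
    · have h1 := ih (d - 1) (by omega) (i := i + 1) (by omega) (by omega)
      rw [show i + 1 + (d - 1) = i + d by omega] at h1
      have h2 := R_all hR i
      have h3 := Q_add (far d (by omega) (by omega)) i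
      rw [zero_add, add_comm d i] at h3
      rw [← h2] at h1
      have h4 : X c x e (i + d) = T c t i * X c x e (i + d) * (T c t i)⁻¹ := by rw [h3.eq]; group
      rw [h4, sq_conj] at h1
      have h5 : (X c x e i * X c x e (i + d)) ^ 2 =
          (T c t i)⁻¹ * (T c t i * (X c x e i * X c x e (i + d)) ^ 2 * (T c t i)⁻¹) * T c t i := by group
      rw [h5, h1]; group

theorem cube (h3 : x ^ 3 = 1) (i : ℕ) : X c x e i ^ 3 = 1 := by
  unfold X
  have h1 : (x ^ (((e ^ i : ℤˣ)) : ℤ)) ^ 3 = 1 := by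
    rw [← zpow_natCast, ← zpow_mul, mul_comm, zpow_mul, zpow_natCast, h3, one_zpow]
  rw [conj_pow, h1]
  group

/-- the homomorphism -/
theorem exists_hom {W N : ℕ} (h3N : 3 ≤ N + 2) (hN : N + 3 ≤ 2 * W) (h3 : x ^ 3 = 1)
    (hP : ∀ d, 1 ≤ d → d < W → (X c x e 0 * X c x e d) ^ 2 = 1)
    (hR : t * x * t⁻¹ = X c x e 1)
    (hQ : ∀ k, 1 ≤ k → k + 3 ≤ W → Commute (T c t k) (X c x e 0))
    (hc : Commute (c ^ N) t) :
    ∃ Φ : alternatingGroup (Fin N ⊕ Bool) →* J, ∀ (σ : alternatingGroup (Fin N ⊕ Bool)) (i : Fin N),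
      (σ : Perm (Fin N ⊕ Bool)) = cyc (Sum.inl i) (Sum.inr false) (Sum.inr true) → Φ σ = X c x e i := by
  have hpair : ∀ i j : ℕ, i < N → j < N → i ≠ j → (X c x e i * X c x e j) ^ 2 = 1 := by
    intro i j hi hj hij
    rcases Nat.lt_or_gt_of_ne hij with h | h
    · exact pairs hN hP hR hQ hc h hj
    · exact sq_swap (pairs hN hP hR hQ hc h hi)
  obtain ⟨f, hf⟩ := Cfsg.Agent.StdAlt.Carm.exists_hom (G := J) (Ω := Fin N ⊕ Bool)
    (c := Sum.inr false) (d := Sum.inr true) (by simp) (by simpa using h3N)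
    (y := Sum.elim (fun i : Fin N => X c x e i) (fun _ => 1))
    (by
      rintro (i | b) h1 h2
      · exact cube h3 _
      · simp)
    (by
      rintro (i | b) (j | b') h1 h2 h3 h4 h5
      · exact hpair i j i.2 j.2 (fun h => h5 (by rw [Fin.ext h]))
      · cases b' <;> simp at h3 h4
      · cases b <;> simp at h1 h2
      · cases b <;> simp at h1 h2)
  refine ⟨f, fun σ i hσ => ?_⟩
  exact hf σ (Sum.inl i) (by simp) (by simp) hσ

end Cfsg.Agent.H110.Chain
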