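import Cfsg.Agent.StdAlt.PermTypes

/-!
# Permutations of `Fin N ⊕ Bool` (helper110, cluster S2284-S2297)

`rot N` is the cycle `(0 1 … N-1)`, `kap` the transposition of the two points of `Bool`, `ext h` the extension of the
permutations of `Fin W ⊕ Bool` by the identity.
-/

set_option autoImplicit false

namespace Cfsg.Agent.H110.Perms

open Equiv Equiv.Perm
open Cfsg.Agent.StdAlt.PermTypes (cyc cyc_conj cyc_inv cyc_rot cyc_mem_alt)

/-- the points -/
abbrev Pt (N : ℕ) := Fin N ⊕ Bool

/-- the inclusion of points -/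
def emb {W N : ℕ} (h : W ≤ N) : Pt W ↪ Pt N :=
  ⟨Sum.map (Fin.castLE h) id, by
    rintro (a | a) (b | b) hab
    · simpa using hab
    · simp at hab
    · simp at hab
    · simpa using hab⟩

/-- a point of the cycle -/
def pt {N : ℕ} (i : ℕ) (h : i < N) : Pt N := Sum.inl ⟨i, h⟩

theorem pt_inj {N i j : ℕ} {h : i < N} {h' : j < N} : pt i h = pt j h' ↔ i = j := by
  simp [pt]

theorem pt_ne_inr {N i : ℕ} {h : i < N} {b : Bool} : pt i h ≠ Sum.inr b := by simp [pt]

theorem emb_pt {W N : ℕ} (h : W ≤ N) {i : ℕ} (hi : i < W) : emb h (pt i hi) = pt i (hi.trans_le h) := rfl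

theorem emb_inr {W N : ℕ} (h : W ≤ N) (b : Bool) : emb h (Sum.inr b) = Sum.inr b := rfl

/-- extension by the identity -/
noncomputable def ext {W N : ℕ} (h : W ≤ N) : Perm (Pt W) →* Perm (Pt N) := viaEmbeddingHom (emb h)

theorem ext_injective {W N : ℕ} (h : W ≤ N) : Function.Injective (ext h) := viaEmbeddingHom_injective _

theorem ext_apply_emb {W N : ℕ} (h : W ≤ N) (σ : Perm (Pt W)) (x : Pt W) :
    ext h σ (emb h x) = emb h (σ x) := viaEmbedding_apply _ _ _

theorem ext_swap {W N : ℕ} (h : W ≤ N) (a b : Pt W) : ext h (swap a b) = swap (emb h a) (emb h b) := by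
  ext x : 1
  by_cases hx : x ∈ Set.range (emb h)
  · obtain ⟨y, rfl⟩ := hx
    rw [ext_apply_emb, swap_apply_def, swap_apply_def]
    simp only [(emb h).injective.eq_iff]
    split_ifs <;> rfl
  · have h1 : ext h (swap a b) x = x := viaEmbedding_apply_of_notMem _ _ _ hx
    rw [h1, swap_apply_of_ne_of_ne]
    · rintro rfl; exact hx ⟨_, rfl⟩
    · rintro rfl; exact hx ⟨_, rfl⟩

theorem ext_cyc {W N : ℕ} (h : W ≤ N) (a b d : Pt W) :
    ext h (cyc a b d) = cyc (emb h a) (emb h b) (emb h d) := by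
  unfold cyc
  rw [map_mul, ext_swap, ext_swap]

theorem sign_ext {W N : ℕ} (h : W ≤ N) (σ : Perm (Pt W)) : sign (ext h σ) = sign σ := by
  classical
  have : ext h σ = σ.extendDomain (Equiv.ofInjective (emb h) (emb h).injective) := by
    unfold ext
    rw [viaEmbeddingHom_apply]
    unfold viaEmbedding
    ext x : 1
    congr
  rw [this]
  exact sign_extendDomain _ _

/-- the transposition of the two extra points -/
def kap (N : ℕ) : Perm (Pt N) := swap (Sum.inr false) (Sum.inr true)

/-- the points of the cycle -/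
def pts (N : ℕ) : List (Pt N) := (List.finRange N).map Sum.inl

theorem length_pts (N : ℕ) : (pts N).length = N := by simp [pts]

theorem nodup_pts (N : ℕ) : (pts N).Nodup := (List.nodup_finRange N).map Sum.inl_injective

theorem getElem_pts {N : ℕ} (i : ℕ) (h : i < (pts N).length) : (pts N)[i] = pt i (by simpa [pts] using h) := by
  simp [pts, pt]

/-- the cycle `(0 1 … N-1)` -/
def rot (N : ℕ) : Perm (Pt N) := (pts N).formPerm

theorem rot_apply {N i : ℕ} (h : i + 1 < N) : rot N (pt i (by omega)) = pt (i + 1) h := by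
  have := List.formPerm_apply_lt_getElem (pts N) (nodup_pts N) i (by rw [length_pts]; exact h)
  rw [getElem_pts, getElem_pts] at this
  exact this

theorem inr_notMem_pts {N : ℕ} (b : Bool) : (Sum.inr b : Pt N) ∉ pts N := by simp [pts]

theorem rot_inr {N : ℕ} (b : Bool) : rot N (Sum.inr b) = Sum.inr b :=
  List.formPerm_apply_of_notMem (inr_notMem_pts b)

theorem rot_pow (N : ℕ) : rot N ^ N = 1 := by
  have := List.formPerm_pow_length_eq_one_of_nodup _ (nodup_pts N)
  rwa [length_pts] at this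

theorem sign_formPerm {α : Type*} [DecidableEq α] [Fintype α] (x : α) (l : List α) (h : (x :: l).Nodup) :
    sign ((x :: l).formPerm) = (-1) ^ l.length := by
  induction l generalizing x with
  | nil => simp
  | cons y l ih =>
    rw [List.formPerm_cons_cons, map_mul, ih y h.of_cons, sign_swap, List.length_cons, pow_succ']
    rintro rfl
    simp at h

theorem pts_eq {N : ℕ} (h : 0 < N) : ∃ l, pts N = pt 0 h :: l ∧ l.length = N - 1 := by
  rcases hl : pts N with _ | ⟨x, l⟩
  · have := length_pts N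
    rw [hl] at this
    simp at this; omega
  · have h1 := getElem_pts (N := N) 0 (by rw [length_pts]; exact h)
    have h2 := length_pts N
    simp only [hl, List.getElem_cons_zero, List.length_cons] at h1 h2
    exact ⟨l, by rw [h1], by omega⟩

theorem pts_eq2 {N : ℕ} (h : 1 < N) : ∃ l, pts N = pt 0 (by omega) :: pt 1 h :: l ∧ l.length = N - 2 := by
  obtain ⟨l, h1, h2⟩ := pts_eq (N := N) (by omega)
  rcases l with _ | ⟨y, l⟩
  · simp at h2; omega
  · have h3 := getElem_pts (N := N) 1 (by rw [length_pts]; exact h)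
    simp only [h1, List.getElem_cons_succ, List.getElem_cons_zero] at h3
    refine ⟨l, by rw [h1, h3], ?_⟩
    simp only [List.length_cons] at h2; omega

theorem pts_eq3 {N : ℕ} (h : 2 < N) :
    ∃ l, pts N = pt 0 (by omega) :: pt 1 (by omega) :: pt 2 h :: l ∧ l.length = N - 3 := by
  obtain ⟨l, h1, h2⟩ := pts_eq2 (N := N) (by omega)
  rcases l with _ | ⟨y, l⟩
  · simp at h2; omega
  · have h3 := getElem_pts (N := N) 2 (by rw [length_pts]; exact h)
    simp only [h1, List.getElem_cons_succ, List.getElem_cons_zero] at h3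
    refine ⟨l, by rw [h1, h3], ?_⟩
    simp only [List.length_cons] at h2; omega

theorem sign_rot {N : ℕ} (h : 0 < N) : sign (rot N) = (-1) ^ (N - 1) := by
  obtain ⟨l, h1, h2⟩ := pts_eq h
  have h3 := nodup_pts N
  unfold rot
  rw [h1] at h3 ⊢
  rw [sign_formPerm _ _ h3, h2]

theorem commute_kap {N : ℕ} {σ : Perm (Pt N)} (h : ∀ b, σ (Sum.inr b) = Sum.inr b) : Commute (kap N) σ := by
  have : kap N * σ = σ * kap N := by
    unfold kap
    rw [mul_swap_eq_swap_mul, h, h]
  exact this

theorem formPerm_inr {N : ℕ} {l l' : List (Pt N)} (h : pts N = l ++ l') (b : Bool) :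
    l'.formPerm (Sum.inr b) = Sum.inr b := by
  apply List.formPerm_apply_of_notMem
  intro hb
  exact inr_notMem_pts (N := N) b (by rw [h]; simp [hb])

theorem rot_eq2 {N : ℕ} (h : 1 < N) : ∃ ρ : Perm (Pt N), rot N = swap (pt 0 (by omega)) (pt 1 h) * ρ ∧
    ρ ^ (N - 1) = 1 ∧ Commute (kap N) ρ := by
  obtain ⟨l, h1, h2⟩ := pts_eq2 h
  refine ⟨(pt 1 h :: l).formPerm, ?_, ?_, ?_⟩
  · unfold rot; rw [h1, List.formPerm_cons_cons]
  · have h3 := nodup_pts N
    rw [h1] at h3
    have := List.formPerm_pow_length_eq_one_of_nodup _ h3.of_cons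
    rwa [List.length_cons, h2, show N - 2 + 1 = N - 1 by omega] at this
  · exact commute_kap fun b => formPerm_inr (l := [pt 0 (by omega)]) (by rw [h1]; rfl) b

theorem rot_eq3 {N : ℕ} (h : 2 < N) :
    ∃ ρ : Perm (Pt N), rot N = cyc (pt 0 (by omega)) (pt 1 (by omega)) (pt 2 h) * ρ ∧
    ρ ^ (N - 2) = 1 ∧ Commute (kap N) ρ := by
  obtain ⟨l, h1, h2⟩ := pts_eq3 h
  refine ⟨(pt 2 h :: l).formPerm, ?_, ?_, ?_⟩
  · unfold rot cyc; rw [h1, List.formPerm_cons_cons, List.formPerm_cons_cons, mul_assoc]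
  · have h3 := nodup_pts N
    rw [h1] at h3
    have := List.formPerm_pow_length_eq_one_of_nodup _ h3.of_cons.of_cons
    rwa [List.length_cons, h2, show N - 3 + 1 = N - 2 by omega] at this
  · exact commute_kap fun b =>
      formPerm_inr (l := [pt 0 (by omega), pt 1 (by omega)]) (by rw [h1]; rfl) b

theorem kap_sq (N : ℕ) : kap N * kap N = 1 := swap_mul_self _ _

theorem sign_kap (N : ℕ) : sign (kap N) = -1 := sign_swap (by simp)

end Cfsg.Agent.H110.Perms
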