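import Cfsg.Agent.H110.Chain
import Cfsg.Agent.H110.Perms

/-!
# Gluing windows: from `Alt (W + 2)` to `Alt (N + 2)` and `Sym (N + 2)` (helper110, cluster S2284-S2297)

`φ : Alt (Fin W ⊕ Bool) → J`, `c : J` acts on the image of the stabiliser of the last point of the window like
`rot N * kap N ^ ε`.
-/

set_option autoImplicit false

namespace Cfsg.Agent.H110.Glue

open Equiv Equiv.Perm
open Cfsg.Agent.StdAlt.PermTypes (cyc cyc_conj cyc_inv cyc_rot cyc_mem_alt cyc_apply_of_ne cyc_pow_three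
  cyc_apply_fst cyc_apply_snd cyc_apply_thd swap_conj)
open Cfsg.Agent.H110.Perms Cfsg.Agent.H110.Chain

/-! ### permutation identities -/

section perm

variable {α : Type*} [Fintype α] [DecidableEq α]

theorem cyc_mul_cyc {a b c d : α} (hac : a ≠ c) (had : a ≠ d) (hbc : b ≠ c) (hbd : b ≠ d) :
    cyc a c d * cyc b c d = swap a c * swap b d := by
  unfold cyc
  have h : swap c d * swap b c * (swap c d)⁻¹ = swap b d := by
    rw [swap_conj, swap_apply_of_ne_of_ne hbc hbd, swap_apply_left]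
  rw [swap_inv] at h
  calc swap a c * swap c d * (swap b c * swap c d) = swap a c * (swap c d * swap b c * swap c d) := by group
    _ = _ := by rw [h]

theorem cyc_sq {a b c d : α} (hab : a ≠ b) (hac : a ≠ c) (had : a ≠ d) (hbc : b ≠ c) (hbd : b ≠ d) (hcd : c ≠ d) :
    (cyc a c d * cyc b c d) ^ 2 = 1 := by
  rw [cyc_mul_cyc hac had hbc hbd]
  have h : Commute (swap a c) (swap b d) := by
    have : swap a c * swap b d = swap b d * swap a c := by
      rw [mul_swap_eq_swap_mul, swap_apply_of_ne_of_ne hab.symm hbc,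
        swap_apply_of_ne_of_ne had.symm hcd.symm]
    exact this
  rw [h.mul_pow, pow_two, pow_two, swap_mul_self, swap_mul_self, one_mul]

/-- the double transposition as a word in two 3-cycles -/
theorem cyc_word {a b c d : α} (hab : a ≠ b) (hac : a ≠ c) (had : a ≠ d) (hbc : b ≠ c) (hbd : b ≠ d) (hcd : c ≠ d) :
    cyc a c d * cyc b c d ^ 2 * cyc a c d = swap a b * swap c d := by
  have h1 : cyc a c d * cyc b c d ^ 2 * cyc a c d = (cyc a c d * cyc b c d) * (cyc b c d * cyc a c d) := by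
    rw [pow_two]; group
  rw [h1, cyc_mul_cyc hac had hbc hbd, cyc_mul_cyc hbc hbd hac had]
  have h2 : swap b d * swap b c = cyc d b c := by unfold cyc; rw [swap_comm d b]
  have h3 : cyc d b c * swap a d = swap a b * cyc d b c := by
    rw [mul_swap_eq_swap_mul, cyc_apply_of_ne had hab hac, cyc_apply_fst hcd.symm hbd.symm]
  have h4 : swap a c * swap a b = swap a b * swap b c := by
    have : cyc c a b = cyc a b c := cyc_rot hac.symm hab hbc.symm
    unfold cyc at this
    rw [swap_comm a c, this]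
  have h5 : swap b c * swap d b * swap b c = swap d c := by
    have : swap b c * swap d b * (swap b c)⁻¹ = swap d c := by
      rw [swap_conj, swap_apply_of_ne_of_ne hbd.symm hcd.symm, swap_apply_left]
    rwa [swap_inv] at this
  calc swap a c * swap b d * (swap b c * swap a d) = swap a c * ((swap b d * swap b c) * swap a d) := by group
    _ = swap a c * (swap a b * cyc d b c) := by rw [h2, h3]
    _ = swap a c * swap a b * cyc d b c := by group
    _ = swap a b * (swap b c * swap d b * swap b c) := by rw [h4]; unfold cyc; group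
    _ = swap a b * swap c d := by rw [h5, swap_comm d c]

end perm

/-! ### the elements -/

/-- the 3-cycle `(i ∞ ∞')` -/
def xx {N : ℕ} (i : ℕ) (h : i < N) : alternatingGroup (Pt N) :=
  ⟨cyc (pt i h) (Sum.inr false) (Sum.inr true), cyc_mem_alt (by simp [pt]) (by simp)⟩

/-- the 3-cycle `(i i+1 i+2)` -/
def tt {N : ℕ} (i : ℕ) (h : i + 2 < N) : alternatingGroup (Pt N) :=
  ⟨cyc (pt i (by omega)) (pt (i + 1) (by omega)) (pt (i + 2) h),
    cyc_mem_alt (by simp [pt]) (by simp [pt])⟩

/-- the double transposition `(i i+1)(∞ ∞')` -/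
def ss {N : ℕ} (i : ℕ) (h : i + 1 < N) : alternatingGroup (Pt N) :=
  xx i (by omega) * xx (i + 1) h ^ 2 * xx i (by omega)

theorem coe_ss {N : ℕ} (i : ℕ) (h : i + 1 < N) :
    (ss i h : Perm (Pt N)) = swap (pt i (by omega)) (pt (i + 1) h) * kap N := by
  unfold ss kap
  rw [Subgroup.coe_mul, Subgroup.coe_mul, Subgroup.coe_pow]
  exact cyc_word (by simp [pt]) (by simp [pt]) (by simp [pt]) (by simp [pt]) (by simp [pt]) (by simp)

theorem tt_eq {N : ℕ} (i : ℕ) (h : i + 2 < N) : tt i h = ss i (by omega) * ss (i + 1) h := by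
  apply Subtype.ext
  rw [Subgroup.coe_mul, coe_ss, coe_ss]
  have h1 : swap (pt i (by omega)) (pt (i + 1) (by omega)) * kap N *
      (swap (pt (i + 1) (by omega)) (pt (i + 2) h) * kap N) =
      swap (pt i (by omega)) (pt (i + 1) (by omega)) *
      (kap N * swap (pt (i + 1) (by omega)) (pt (i + 2) h) * kap N) := by group
  refine Eq.trans ?_ h1.symm
  have h2 : kap N * swap (pt (i + 1) (by omega)) (pt (i + 2) h) =
      swap (pt (i + 1) (by omega)) (pt (i + 2) h) * kap N :=
    commute_kap fun b => swap_apply_of_ne_of_ne (by simp [pt]) (by simp [pt])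
  rw [h2, mul_assoc, kap_sq, mul_one]
  rfl

theorem tt_zero_eq {N : ℕ} (h : 0 + 2 < N) : tt 0 h = ss 0 (by omega) * ss 1 (by omega) := tt_eq 0 h

theorem xx_cube {N : ℕ} (i : ℕ) (h : i < N) : xx i h ^ 3 = 1 := by
  apply Subtype.ext
  rw [Subgroup.coe_pow]
  exact cyc_pow_three (by simp [pt]) (by simp) (by simp [pt])

theorem xx_pair {N : ℕ} {i j : ℕ} (h : i < N) (h' : j < N) (hij : i ≠ j) : (xx i h * xx j h') ^ 2 = 1 := by
  apply Subtype.ext
  rw [Subgroup.coe_pow, Subgroup.coe_mul]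
  exact cyc_sq (by simpa [pt] using hij) (by simp [pt]) (by simp [pt]) (by simp [pt]) (by simp [pt]) (by simp)

/-- extension by the identity on the alternating groups -/
noncomputable def extA {W N : ℕ} (h : W ≤ N) : alternatingGroup (Pt W) →* alternatingGroup (Pt N) :=
  ((ext h).comp (alternatingGroup (Pt W)).subtype).codRestrict _ (fun σ => by
    rw [mem_alternatingGroup, MonoidHom.comp_apply, sign_ext]
    exact mem_alternatingGroup.1 σ.2)

theorem coe_extA {W N : ℕ} (h : W ≤ N) (σ : alternatingGroup (Pt W)) :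
    (extA h σ : Perm (Pt N)) = ext h σ := rfl

theorem extA_xx {W N : ℕ} (h : W ≤ N) (i : ℕ) (hi : i < W) : extA h (xx i hi) = xx i (hi.trans_le h) :=
  Subtype.ext (ext_cyc h _ _ _)

theorem extA_tt {W N : ℕ} (h : W ≤ N) (i : ℕ) (hi : i + 2 < W) : extA h (tt i hi) = tt i (hi.trans_le h) :=
  Subtype.ext (ext_cyc h _ _ _)

theorem extA_injective {W N : ℕ} (h : W ≤ N) : Function.Injective (extA h) := by
  intro a b hab
  apply Subtype.ext
  apply ext_injective h
  rw [← coe_extA, ← coe_extA, hab]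

/-- the cycle with the parity correction -/
def CC (N ε : ℕ) : Perm (Pt N) := rot N * kap N ^ ε

theorem kap_conj_xx {N : ℕ} (i : ℕ) (h : i < N) (ε : ℕ) :
    kap N ^ ε * (xx i h : Perm (Pt N)) * (kap N ^ ε)⁻¹ = (xx i h : Perm (Pt N)) ^ ((((-1) ^ ε : ℤˣ)) : ℤ) := by
  induction ε with
  | zero => simp
  | succ ε ih =>
    have h1 : kap N ^ (ε + 1) * (xx i h : Perm (Pt N)) * (kap N ^ (ε + 1))⁻¹ =
        kap N * (kap N ^ ε * (xx i h : Perm (Pt N)) * (kap N ^ ε)⁻¹) * (kap N)⁻¹ := by
      rw [pow_succ', mul_inv_rev]; group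
    have h2 : kap N * (xx i h : Perm (Pt N)) * (kap N)⁻¹ = (xx i h : Perm (Pt N))⁻¹ := by
      unfold xx kap
      simp only
      rw [cyc_conj, swap_apply_left, swap_apply_right, swap_apply_of_ne_of_ne (by simp [pt]) (by simp [pt]),
        cyc_inv, cyc_rot (by simp [pt]) (by simp) (by simp [pt])]
    rw [h1, ih, ← conj_zpow, h2, inv_zpow, ← zpow_neg, pow_succ]
    simp

theorem CC_conj_xx {N : ℕ} (i : ℕ) (h : i + 1 < N) (ε : ℕ) :
    CC N ε * ((xx (N := N) i (by omega) : alternatingGroup (Pt N)) : Perm (Pt N)) * (CC N ε)⁻¹ =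
      (xx (i + 1) h : Perm (Pt N)) ^ ((((-1) ^ ε : ℤˣ)) : ℤ) := by
  have h1 : CC N ε * ((xx (N := N) i (by omega) : alternatingGroup (Pt N)) : Perm (Pt N)) * (CC N ε)⁻¹ =
      rot N * (kap N ^ ε * ((xx (N := N) i (by omega) : alternatingGroup (Pt N)) : Perm (Pt N)) * (kap N ^ ε)⁻¹) * (rot N)⁻¹ := by
    unfold CC; group
  rw [h1, kap_conj_xx, ← conj_zpow]
  congr 1
  unfold xx
  simp only
  rw [cyc_conj, rot_inr, rot_inr, rot_apply (N := N) (i := i) h]

theorem kap_conj_tt {N : ℕ} (i : ℕ) (h : i + 2 < N) (ε : ℕ) :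
    kap N ^ ε * (tt i h : Perm (Pt N)) * (kap N ^ ε)⁻¹ = (tt i h : Perm (Pt N)) := by
  have : Commute (kap N) (tt i h : Perm (Pt N)) := commute_kap fun b => by
    unfold tt; exact cyc_apply_of_ne (by simp [pt]) (by simp [pt]) (by simp [pt])
  rw [(this.pow_left ε).eq, mul_inv_cancel_right]

theorem CC_conj_tt {N : ℕ} (i : ℕ) (h : i + 3 < N) (ε : ℕ) :
    CC N ε * ((tt (N := N) i (by omega) : alternatingGroup (Pt N)) : Perm (Pt N)) * (CC N ε)⁻¹ = (tt (i + 1) h : Perm (Pt N)) := by
  have h1 : CC N ε * ((tt (N := N) i (by omega) : alternatingGroup (Pt N)) : Perm (Pt N)) * (CC N ε)⁻¹ =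
      rot N * (kap N ^ ε * ((tt (N := N) i (by omega) : alternatingGroup (Pt N)) : Perm (Pt N)) * (kap N ^ ε)⁻¹) * (rot N)⁻¹ := by
    unfold CC; group
  rw [h1, kap_conj_tt]
  unfold tt
  simp only
  rw [cyc_conj, rot_apply (N := N) (i := i) (by omega), rot_apply (N := N) (i := i + 1) (by omega),
    rot_apply (N := N) (i := i + 2) (by omega)]

/-! ### the analysis of the abstract group -/

section abstract

variable {W N : ℕ} {J : Type*} [Group J] {φ : alternatingGroup (Pt W) →* J} {c : J} {ε : ℕ}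

/-- `c` acts on the stabiliser of the last point like `CC N ε` -/
def Acts (hWN : W < N) (φ : alternatingGroup (Pt W) →* J) (c : J) (ε : ℕ) : Prop :=
  ∀ (ρ : alternatingGroup (Pt (W - 1))) (σ' : alternatingGroup (Pt W)),
    ext hWN.le σ' = CC N ε * ext hWN.le (extA (Nat.sub_le W 1) ρ) * (CC N ε)⁻¹ →
    c * φ (extA (Nat.sub_le W 1) ρ) * c⁻¹ = φ σ'

theorem xx_fix {i j : ℕ} (h : i < N) (h' : j < N) (hij : j ≠ i) : (xx i h : Perm (Pt N)) (pt j h') = pt j h' := by
  unfold xx
  exact cyc_apply_of_ne (by simpa [pt] using hij) (by simp [pt]) (by simp [pt])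

theorem tt_fix {i j : ℕ} (h : i + 2 < N) (h' : j < N) (hij : i + 2 < j ∨ j < i) :
    (tt i h : Perm (Pt N)) (pt j h') = pt j h' := by
  unfold tt
  exact cyc_apply_of_ne (by simp [pt]; omega) (by simp [pt]; omega) (by simp [pt]; omega)

theorem zpow_unit_fix {α : Type*} {σ : Perm α} {x : α} (h : σ x = x) (e : ℤˣ) : (σ ^ (e : ℤ)) x = x := by
  rcases Int.units_eq_one_or e with rfl | rfl
  · simpa using h
  · simp only [Units.val_neg, Units.val_one, zpow_neg, zpow_one]
    exact Equiv.Perm.inv_eq_iff_eq.2 h.symm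

theorem phi_xx (hWN : W < N) (H : Acts hWN φ c ε) (hW : 0 < W) (i : ℕ) (hi : i < W) :
    φ (xx i hi) = X c (φ (xx 0 hW)) ((-1) ^ ε) i := by
  induction i with
  | zero => rw [X_zero]
  | succ i ih =>
    rw [← X_succ', ← ih (by omega), ← map_zpow]
    symm
    have h0 : xx i (by omega : i < W) ^ ((((-1) ^ ε : ℤˣ)) : ℤ) =
        extA (Nat.sub_le W 1) (xx i (by omega) ^ ((((-1) ^ ε : ℤˣ)) : ℤ)) := by
      rw [map_zpow, extA_xx]
    rw [h0]
    apply H
    rw [← h0, ← coe_extA, ← coe_extA, map_zpow, extA_xx, extA_xx, Subgroup.coe_zpow, ← conj_zpow,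
      CC_conj_xx i (by omega), ← zpow_mul, ← Units.val_mul, Int.units_mul_self, Units.val_one, zpow_one]

theorem phi_tt (hWN : W < N) (H : Acts hWN φ c ε) (hW : 0 + 2 < W) (i : ℕ) (hi : i + 2 < W) :
    φ (tt i hi) = T c (φ (tt 0 hW)) i := by
  induction i with
  | zero => rw [T_zero]
  | succ i ih =>
    rw [← T_succ, ← ih (by omega)]
    symm
    have h0 : tt i (by omega : i + 2 < W) = extA (Nat.sub_le W 1) (tt i (by omega)) := by rw [extA_tt]
    rw [h0]
    apply H
    rw [← h0, ← coe_extA, ← coe_extA, extA_tt, extA_tt, CC_conj_tt i (by omega)]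

/-- **The homomorphism from the big alternating group.** -/
theorem exists_Phi (hWN : W < N) (hN : N + 3 ≤ 2 * W) (H : Acts hWN φ c ε)
    (hc : Commute (c ^ N) (φ (tt 0 (by omega)))) :
    ∃ Φ : alternatingGroup (Pt N) →* J, (∀ σ, Φ (extA hWN.le σ) = φ σ) ∧
      ∀ i (h : i < N), Φ (xx i h) = X c (φ (xx 0 (by omega))) ((-1) ^ ε) i := by
  obtain ⟨Φ, hΦ⟩ := exists_hom (J := J) (W := W) (N := N) (c := c) (x := φ (xx 0 (by omega)))
    (t := φ (tt 0 (by omega))) (e := (-1) ^ ε) (by omega) hN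
    (by rw [← map_pow, xx_cube, map_one])
    (by
      intro d h1 h2
      rw [X_zero, ← phi_xx hWN H (by omega) d h2, ← map_mul, ← map_pow, xx_pair _ _ (by omega), map_one])
    (by
      rw [← phi_xx hWN H (by omega) 1 (by omega), ← map_inv, ← map_mul, ← map_mul]
      congr 1
      apply Subtype.ext
      rw [Subgroup.coe_mul, Subgroup.coe_mul, Subgroup.coe_inv]
      unfold xx tt
      simp only
      rw [cyc_conj, cyc_apply_fst (by simp [pt]) (by simp [pt]), cyc_apply_of_ne (by simp [pt]) (by simp [pt]) (by simp [pt]),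
        cyc_apply_of_ne (by simp [pt]) (by simp [pt]) (by simp [pt])])
    (by
      intro k h1 h2
      rw [← phi_tt hWN H (by omega) k (by omega), X_zero]
      have : Commute (tt k (by omega : k + 2 < W)) (xx 0 (by omega)) := by
        have h3 : tt k (by omega : k + 2 < W) * xx 0 (by omega) * (tt k (by omega))⁻¹ = xx 0 (by omega) := by
          apply Subtype.ext
          rw [Subgroup.coe_mul, Subgroup.coe_mul, Subgroup.coe_inv]
          unfold xx tt
          simp only
          rw [cyc_conj, cyc_apply_of_ne (by simp [pt]; omega) (by simp [pt]) (by simp [pt]),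
            cyc_apply_of_ne (by simp [pt]) (by simp [pt]) (by simp [pt]),
            cyc_apply_of_ne (by simp [pt]) (by simp [pt]) (by simp [pt])]
        have h4 := mul_inv_eq_iff_eq_mul.1 h3
        exact h4
      exact this.map φ)
    hc
  have hx : ∀ i (h : i < N), Φ (xx i h) = X c (φ (xx 0 (by omega))) ((-1) ^ ε) i := fun i h => hΦ _ ⟨i, h⟩ rfl
  refine ⟨Φ, ?_, hx⟩
  have htop := Cfsg.Agent.StdAlt.Carm.eq_top_of_cyc (Ω := Pt W) (c := Sum.inr false) (d := Sum.inr true) (by simp)
    (by simp; omega) ((Φ.comp (extA hWN.le)).eqLocus φ) (by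
      rintro σ (i | b) h1 h2 hσ
      · have : σ = xx i.1 i.2 := Subtype.ext hσ
        rw [this]
        change Φ (extA hWN.le (xx i.1 i.2)) = φ (xx i.1 i.2)
        rw [extA_xx, hx, phi_xx hWN H (by omega) i.1 i.2]
      · cases b <;> simp at h1 h2)
  intro σ
  have : σ ∈ (Φ.comp (extA hWN.le)).eqLocus φ := by rw [htop]; exact Subgroup.mem_top _
  exact this

/-- telescoping -/
theorem tele {R : Subgroup J} {s : J} (k : ℕ) (h : ∀ i < k, T c s i ∈ R) : (s * c) ^ k * (c ^ k)⁻¹ ∈ R := by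
  induction k with
  | zero => simp
  | succ k ih =>
    have h1 : (s * c) ^ (k + 1) * (c ^ (k + 1))⁻¹ = ((s * c) ^ k * (c ^ k)⁻¹) * T c s k := by
      unfold T
      rw [pow_succ, pow_succ, mul_inv_rev]; group
    rw [h1]
    exact mul_mem (ih fun i hi => h i (by omega)) (h k (by omega))

theorem conj_mem_of_X {R : Subgroup J} {x : J} {e : ℤˣ} {i : ℕ} (h : X c x e i ∈ R) : c ^ i * x * (c ^ i)⁻¹ ∈ R := by
  unfold X at h
  rw [← conj_zpow] at h
  rcases Int.units_eq_one_or (e ^ i) with h1 | h1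
  · rw [h1] at h; simpa using h
  · rw [h1, Units.val_neg, Units.val_one, zpow_neg, zpow_one] at h
    exact inv_mem_iff.1 h

theorem T_ss_mem (hWN : W < N) (hN : N + 3 ≤ 2 * W) (H : Acts hWN φ c ε) {R : Subgroup J}
    (hR : ∀ i < N, X c (φ (xx 0 (by omega))) ((-1) ^ ε) i ∈ R) (i : ℕ) (hi : i + 1 < N) :
    T c (φ (ss 0 (by omega))) i ∈ R := by
  have h0 := conj_mem_of_X (hR i (by omega))
  have h1 : c ^ i * φ (xx 1 (by omega)) * (c ^ i)⁻¹ ∈ R := by
    rw [phi_xx hWN H (by omega) 1 (by omega)]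
    have h2 := conj_mem_of_X (hR (i + 1) hi)
    have h3 : c ^ i * X c (φ (xx 0 (by omega))) ((-1) ^ ε) 1 * (c ^ i)⁻¹ =
        (c ^ (i + 1) * φ (xx 0 (by omega)) * (c ^ (i + 1))⁻¹) ^ ((((-1) ^ ε : ℤˣ)) : ℤ) := by
      unfold X
      rw [conj_zpow, pow_one, pow_one, pow_succ, mul_inv_rev]
      simp only [mul_assoc]
    rw [h3]
    exact zpow_mem h2 _
  have h4 : T c (φ (ss 0 (by omega))) i = (c ^ i * φ (xx 0 (by omega)) * (c ^ i)⁻¹) *
      (c ^ i * φ (xx 1 (by omega)) * (c ^ i)⁻¹) ^ 2 * (c ^ i * φ (xx 0 (by omega)) * (c ^ i)⁻¹) := by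
    unfold T ss
    rw [map_mul, map_mul, map_pow, pow_two, pow_two]
    group
  rw [h4]
  exact mul_mem (mul_mem h0 (pow_mem h1 _)) h0

theorem T_mul (c a b : J) (i : ℕ) : T c (a * b) i = T c a i * T c b i := by unfold T; group

theorem T_T (c a : J) (i j : ℕ) : T c (T c a i) j = T c a (i + j) := by
  unfold T
  rw [add_comm i j, pow_add, mul_inv_rev]
  group

theorem CC_conj_ss {N : ℕ} (i : ℕ) (h : i + 2 < N) (ε : ℕ) :
    CC N ε * ((ss (N := N) i (by omega) : alternatingGroup (Pt N)) : Perm (Pt N)) * (CC N ε)⁻¹ = (ss (i + 1) h : Perm (Pt N)) := by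
  rw [coe_ss, coe_ss]
  have h1 : CC N ε * (swap (pt i (by omega)) (pt (i + 1) (by omega)) * kap N) * (CC N ε)⁻¹ =
      rot N * swap (pt i (by omega)) (pt (i + 1) (by omega)) * (rot N)⁻¹ *
      (rot N * kap N * (rot N)⁻¹) := by
    unfold CC
    have h2 : kap N ^ ε * (swap (pt i (by omega)) (pt (i + 1) (by omega)) * kap N) =
        swap (pt i (by omega)) (pt (i + 1) (by omega)) * kap N * kap N ^ ε := by
      have h3 : Commute (kap N) (swap (pt i (by omega)) (pt (i + 1) (by omega))) :=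
        commute_kap fun b => swap_apply_of_ne_of_ne (by simp [pt]) (by simp [pt])
      exact ((h3.mul_right (Commute.refl _)).pow_left ε).eq
    calc rot N * kap N ^ ε * (swap (pt i (by omega)) (pt (i + 1) (by omega)) * kap N) * (rot N * kap N ^ ε)⁻¹
        = rot N * (kap N ^ ε * (swap (pt i (by omega)) (pt (i + 1) (by omega)) * kap N)) * (rot N * kap N ^ ε)⁻¹ := by
          group
      _ = _ := by rw [h2]; group
  rw [h1, swap_conj, rot_apply (N := N) (i := i) (by omega), rot_apply (N := N) (i := i + 1) (by omega)]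
  congr 1
  have : Commute (kap N) (rot N) := commute_kap rot_inr
  rw [← this.eq, mul_inv_cancel_right]

theorem extA_ss {W N : ℕ} (h : W ≤ N) (i : ℕ) (hi : i + 1 < W) : extA h (ss i hi) = ss i (hi.trans_le h) := by
  unfold ss
  rw [map_mul, map_mul, map_pow, extA_xx, extA_xx]

theorem ss_fix {i j : ℕ} (h : i + 1 < N) (h' : j < N) (hij : i + 1 < j ∨ j < i) :
    (ss i h : Perm (Pt N)) (pt j h') = pt j h' := by
  unfold ss
  rw [Subgroup.coe_mul, Subgroup.coe_mul, Subgroup.coe_pow, mul_apply, mul_apply, pow_two, mul_apply,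
    xx_fix _ _ (by omega), xx_fix _ _ (by omega), xx_fix _ _ (by omega), xx_fix _ _ (by omega)]

theorem phi_ss_one (hWN : W < N) (H : Acts hWN φ c ε) (hW : 1 + 1 < W) (_ : 0 + 2 < W) :
    φ (ss 1 hW) = T c (φ (ss 0 (by omega))) 1 := by
  unfold T
  rw [pow_one]
  symm
  have h0 : ss 0 (by omega : 0 + 1 < W) = extA (Nat.sub_le W 1) (ss 0 (by omega)) := by rw [extA_ss]
  rw [h0]
  apply H
  rw [← h0, ← coe_extA, ← coe_extA, extA_ss, extA_ss, CC_conj_ss 0 (by omega)]

theorem T_tt_mem (hWN : W < N) (hN : N + 3 ≤ 2 * W) (H : Acts hWN φ c ε) {R : Subgroup J}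
    (hR : ∀ i < N, X c (φ (xx 0 (by omega))) ((-1) ^ ε) i ∈ R) (i : ℕ) (hi : i + 2 < N) :
    T c (φ (tt 0 (by omega))) i ∈ R := by
  rw [tt_zero_eq, map_mul, T_mul, phi_ss_one hWN H (by omega) (by omega), T_T]
  refine mul_mem (T_ss_mem hWN hN H hR i (by omega)) ?_
  rw [add_comm 1 i]
  exact T_ss_mem hWN hN H hR (i + 1) hi

/-- **The alternating case.** -/
theorem alt_surj (hWN : W < N) (hN : N + 3 ≤ 2 * W) (H : Acts hWN φ c ε)
    (hc : (φ (ss 0 (by omega)) * c) ^ (N - 1) = c ^ N)
    (htop : φ.range ⊔ Subgroup.zpowers c = ⊤) :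
    ∃ Φ : alternatingGroup (Pt N) →* J, Function.Surjective Φ := by
  have h1 : Commute (c ^ N) (φ (ss 0 (by omega))) := by
    have h2 : Commute (c ^ N) (φ (ss 0 (by omega)) * c) := by
      rw [← hc]; exact (Commute.refl _).pow_left _
    have h3 : Commute (c ^ N) c := (Commute.refl c).pow_left N
    have := h2.mul_right h3.inv_right
    rwa [mul_inv_cancel_right] at this
  have h2 : Commute (c ^ N) (φ (tt 0 (by omega))) := by
    rw [tt_zero_eq, map_mul, phi_ss_one hWN H (by omega) (by omega)]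
    refine h1.mul_right ?_
    unfold T
    have h3 : Commute (c ^ N) (c ^ 1) := Commute.pow_pow_self c N 1
    exact (h3.mul_right h1).mul_right h3.inv_right
  obtain ⟨Φ, hΦ1, hΦ2⟩ := exists_Phi hWN hN H h2
  refine ⟨Φ, ?_⟩
  rw [← MonoidHom.range_eq_top, eq_top_iff, ← htop, sup_le_iff]
  have hR : ∀ i < N, X c (φ (xx 0 (by omega))) ((-1) ^ ε) i ∈ Φ.range := by
    intro i hi
    rw [← hΦ2 i hi]
    exact ⟨_, rfl⟩
  constructor
  · rintro _ ⟨σ, rfl⟩
    rw [← hΦ1]; exact ⟨_, rfl⟩
  · rw [Subgroup.zpowers_le]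
    have h3 := tele (c := c) (s := φ (ss 0 (by omega))) (R := Φ.range) (N - 1) fun i hi => T_ss_mem hWN hN H hR i (by omega)
    rw [hc] at h3
    have h4 : c ^ N * (c ^ (N - 1))⁻¹ = c := by
      rw [show N = (N - 1) + 1 by omega, pow_succ', Nat.add_sub_cancel]; group
    rwa [h4] at h3

/-- **The symmetric case.** -/
theorem sym_card (hWN : W < N) (hN : N + 3 ≤ 2 * W) (H : Acts hWN φ c ε)
    (hc : ((φ (tt 0 (by omega)))⁻¹ * c) ^ (N - 2) = c ^ N)
    (htop : φ.range ⊔ Subgroup.zpowers c = ⊤) :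
    Finite J ∧ Nat.card J ≤ 2 * Nat.card (alternatingGroup (Pt N)) := by
  have h1 : Commute (c ^ N) (φ (tt 0 (by omega))) := by
    have h2 : Commute (c ^ N) ((φ (tt 0 (by omega)))⁻¹ * c) := by
      rw [← hc]; exact (Commute.refl _).pow_left _
    have h3 : Commute (c ^ N) c := (Commute.refl c).pow_left N
    have := h2.mul_right h3.inv_right
    rw [mul_inv_cancel_right] at this
    exact Commute.inv_right_iff.1 this
  obtain ⟨Φ, hΦ1, hΦ2⟩ := exists_Phi hWN hN H h1
  have hR : ∀ i < N, X c (φ (xx 0 (by omega))) ((-1) ^ ε) i ∈ Φ.range := by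
    intro i hi
    rw [← hΦ2 i hi]
    exact ⟨_, rfl⟩
  have hc2 : c ^ 2 ∈ Φ.range := by
    have h3 := tele (c := c) (s := (φ (tt 0 (by omega)))⁻¹) (R := Φ.range) (N - 2) fun i hi => by
      have h4 := inv_mem (T_tt_mem hWN hN H hR i (by omega))
      have h5 : (T c (φ (tt 0 (by omega))) i)⁻¹ = T c (φ (tt 0 (by omega)))⁻¹ i := by unfold T; group
      rwa [h5] at h4
    rw [hc] at h3
    have h4 : c ^ N * (c ^ (N - 2))⁻¹ = c ^ 2 := by
      rw [show N = 2 + (N - 2) by omega, pow_add, show 2 + (N - 2) - 2 = N - 2 by omega]; group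
    rwa [h4] at h3
  -- `c` normalises the range
  have hnorm : ∀ g ∈ Φ.range, c * g * c⁻¹ ∈ Φ.range := by
    have hle : Φ.range ≤ Φ.range.comap (MulAut.conj c).toMonoidHom := by
      have htop' := Cfsg.Agent.StdAlt.Carm.eq_top_of_cyc (Ω := Pt N) (c := Sum.inr false) (d := Sum.inr true) (by simp)
        (by simp; omega) ((Φ.range.comap (MulAut.conj c).toMonoidHom).comap Φ) (by
          rintro σ (i | b) h1 h2 hσ
          · have : σ = xx i.1 i.2 := Subtype.ext hσ
            rw [this]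
            change c * Φ (xx i.1 i.2) * c⁻¹ ∈ Φ.range
            rw [hΦ2 i.1 i.2]
            by_cases hi : i.1 + 1 < N
            · rw [X_succ]
              exact zpow_mem (hR _ hi) _
            · have h5 : i.1 = (i.1 - 1) + 1 := by have := i.2; omega
              rw [h5, ← X_succ' c _ _ (i.1 - 1)]
              have h6 := hR (i.1 - 1) (by omega)
              have h7 : c * (c * X c (φ (xx 0 (by omega))) ((-1) ^ ε) (i.1 - 1) ^ ((((-1) ^ ε : ℤˣ)) : ℤ) * c⁻¹) * c⁻¹ =
                  c ^ 2 * X c (φ (xx 0 (by omega))) ((-1) ^ ε) (i.1 - 1) ^ ((((-1) ^ ε : ℤˣ)) : ℤ) * (c ^ 2)⁻¹ := by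
                rw [pow_two]; group
              rw [h7]
              exact mul_mem (mul_mem hc2 (zpow_mem h6 _)) (inv_mem hc2)
          · cases b <;> simp at h1 h2)
      rintro _ ⟨σ, rfl⟩
      have : σ ∈ (Φ.range.comap (MulAut.conj c).toMonoidHom).comap Φ := by rw [htop']; exact Subgroup.mem_top _
      exact this
    intro g hg
    exact hle hg
  -- every element is in `R ∪ R c`
  have hall : ∀ g : J, g ∈ Φ.range ∨ g * c⁻¹ ∈ Φ.range := by
    have hset : ∀ g ∈ (φ.range ⊔ Subgroup.zpowers c : Subgroup J), g ∈ Φ.range ∨ g * c⁻¹ ∈ Φ.range := by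
      intro g hg
      rw [← Subgroup.closure_eq φ.range, Subgroup.zpowers_eq_closure c, ← Subgroup.closure_union] at hg
      induction hg using Subgroup.closure_induction_left with
      | one => exact Or.inl (one_mem _)
      | mul_left x hx y hy ih =>
        rcases hx with hx | hx
        · have hx' : x ∈ Φ.range := by
            obtain ⟨σ, rfl⟩ := hx
            rw [← hΦ1]; exact ⟨_, rfl⟩
          rcases ih with ih | ih
          · exact Or.inl (mul_mem hx' ih)
          · right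
            rw [mul_assoc]; exact mul_mem hx' ih
        · rw [Set.mem_singleton_iff] at hx
          subst hx
          rcases ih with ih | ih
          · exact Or.inr (hnorm y ih)
          · left
            have h1 : x * y = (x * (y * x⁻¹) * x⁻¹) * x ^ 2 := by rw [pow_two]; group
            rw [h1]
            exact mul_mem (hnorm _ ih) hc2
      | inv_mul_cancel x hx y hy ih =>
        rcases hx with hx | hx
        · have hx' : x ∈ Φ.range := by
            obtain ⟨σ, rfl⟩ := hx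
            rw [← hΦ1]; exact ⟨_, rfl⟩
          rcases ih with ih | ih
          · exact Or.inl (mul_mem (inv_mem hx') ih)
          · right
            rw [mul_assoc]; exact mul_mem (inv_mem hx') ih
        · rw [Set.mem_singleton_iff] at hx
          subst hx
          rcases ih with ih | ih
          · right
            have h1 : x⁻¹ * y * x⁻¹ = (x ^ 2)⁻¹ * (x * y * x⁻¹) := by rw [pow_two]; group
            rw [h1]
            exact mul_mem (inv_mem hc2) (hnorm _ ih)
          · left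
            have h1 : x⁻¹ * y = (x ^ 2)⁻¹ * (x * (y * x⁻¹) * x⁻¹) * x ^ 2 := by rw [pow_two]; group
            rw [h1]
            exact mul_mem (mul_mem (inv_mem hc2) (hnorm _ ih)) hc2
    intro g
    exact hset g (by rw [htop]; exact Subgroup.mem_top _)
  have hsurj : Function.Surjective (fun p : alternatingGroup (Pt N) × Bool => Φ p.1 * c ^ (cond p.2 1 0)) := by
    intro g
    rcases hall g with ⟨σ, hσ⟩ | ⟨σ, hσ⟩
    · exact ⟨(σ, false), by simp [hσ]⟩
    · exact ⟨(σ, true), by simp [hσ]⟩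
  refine ⟨Finite.of_surjective _ hsurj, ?_⟩
  have := Nat.card_le_card_of_surjective _ hsurj
  rw [Nat.card_prod] at this
  simp only [Nat.card_eq_fintype_card (α := Bool), Fintype.card_bool] at this
  omega

end abstract

end Cfsg.Agent.H110.Glue
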