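import Cfsg.Agent.H111.Pres
import Cfsg.Agent.H173.PresChange

/-!
# Presentations on given generators: free products, quotients, cyclic extensions (helper110, cluster S2284-S2297)

* `ker_of_inj` : the criterion `Quo.of_inj` for the kernel itself;
* `presOn_coprod`, `presOn_quo` : tracked versions of `HasPres.coprod`, `HasPres.quo`;
* `cyclic_ext_ker`, `cyclic_ext` : `G = A · ⟨c⟩`, `A` finite, normal and generated by two elements, `G/A` cyclic: three more
  relators.
-/

set_option autoImplicit false

namespace Cfsg.Agent.H110.Track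

open Cfsg.Agent.H111 Cfsg.Agent.H173.Pres

/-- The criterion `Quo.of_inj` for the kernel itself. -/
theorem ker_of_inj {P : Type*} {G : Type*} [Group P] [Group G] (f : P →* G)
    (R : List P) (hR : ∀ r ∈ R, f r = 1)
    (h : ∀ (φ : P →* P ⧸ Subgroup.normalClosure {r | r ∈ R}) (θ : P ⧸ Subgroup.normalClosure {r | r ∈ R} →* G),
      Function.Surjective φ → (∀ p, θ (φ p) = f p) → (∀ r ∈ R, φ r = 1) → Function.Injective θ) :
    f.ker = Subgroup.normalClosure {r | r ∈ R} := by
  have hle : Subgroup.normalClosure {r | r ∈ R} ≤ f.ker :=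
    Subgroup.normalClosure_le_normal fun r hr => hR r hr
  refine le_antisymm ?_ hle
  intro x hx
  have h1 := h (QuotientGroup.mk' _) (QuotientGroup.lift _ f hle) (QuotientGroup.mk'_surjective _)
    (fun p => rfl) (fun r hr => (QuotientGroup.eq_one_iff r).2 (Subgroup.subset_normalClosure hr))
  have h2 : (QuotientGroup.mk' (Subgroup.normalClosure {r | r ∈ R})) x = 1 := by
    apply h1
    rw [map_one]
    exact hx
  exact (QuotientGroup.eq_one_iff x).1 h2

/-- from the kernel to `Quo` -/
theorem quo_of_ker {P : Type*} {G : Type*} [Group P] [Group G] (f : P →* G) (hf : Function.Surjective f)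
    (R : List P) (h : f.ker = Subgroup.normalClosure {r | r ∈ R}) : Quo P G R.length := by
  classical
  refine ⟨f, R.toFinset, hf, List.toFinset_card_le R, ?_⟩
  have hset : (↑R.toFinset : Set P) = {r | r ∈ R} := by ext; simp
  rw [hset, h]

/-- from the kernel to `PresOn` -/
theorem presOn_of_ker {ι G : Type*} [Group G] (g : ι → G) (hf : Function.Surjective (FreeGroup.lift g))
    (R : List (FreeGroup ι)) (h : (FreeGroup.lift g).ker = Subgroup.normalClosure {r | r ∈ R}) :
    PresOn g R.length := by
  classical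
  refine ⟨hf, R.toFinset, List.toFinset_card_le R, ?_⟩
  have hset : (↑R.toFinset : Set (FreeGroup ι)) = {r | r ∈ R} := by ext; simp
  rw [hset, h]

section

variable {ι κ A B G : Type*} [Group A] [Group B] [Group G] {m m' : ℕ}

/-- tracked quotients -/
theorem presOn_quo {g : ι → A} (h : PresOn g m) (f : A →* G) (hf : Function.Surjective f) (R : List A)
    (hk : f.ker = Subgroup.normalClosure {r | r ∈ R}) : PresOn (fun i => f (g i)) (m + R.length) := by
  classical
  obtain ⟨hs, R0, hR0, hk0⟩ := h
  have hfl : FreeGroup.lift (fun i => f (g i)) = f.comp (FreeGroup.lift g) := by ext i; simp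
  have hlen : (R0.toList ++ R.map (Function.surjInv hs)).length ≤ m + R.length := by simpa using hR0
  refine (PresOn.of_list (fun i => f (g i)) (closure_of_surj _ (by rw [hfl]; exact hf.comp hs))
    (R0.toList ++ R.map (Function.surjInv hs)) ?_ ?_).mono hlen
  · intro r hr
    rw [hfl, MonoidHom.comp_apply]
    simp only [List.mem_append, Finset.mem_toList, List.mem_map] at hr
    rcases hr with hr | ⟨x, hx, rfl⟩
    · have : r ∈ (FreeGroup.lift g).ker := by rw [hk0]; exact Subgroup.subset_normalClosure hr
      rw [MonoidHom.mem_ker.1 this, map_one]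
    · rw [Function.surjInv_eq hs]
      have : x ∈ f.ker := by rw [hk]; exact Subgroup.subset_normalClosure hx
      exact this
  · intro φ hφ x hx
    have h1 : (FreeGroup.lift g).ker ≤ φ.ker := by
      rw [hk0]
      apply Subgroup.normalClosure_le_normal
      intro r hr
      exact hφ r (by simp only [List.mem_append, Finset.mem_toList]; exact Or.inl hr)
    let ψ := (FreeGroup.lift g).liftOfSurjective hs ⟨_, h1⟩
    have hψ : ∀ y, ψ (FreeGroup.lift g y) = φ y := fun y =>
      (FreeGroup.lift g).liftOfRightInverse_comp_apply _ _ ⟨_, h1⟩ y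
    have h2 : f.ker ≤ ψ.ker := by
      rw [hk]
      apply Subgroup.normalClosure_le_normal
      intro r hr
      have h3 := hφ (Function.surjInv hs r) (by
        simp only [List.mem_append, List.mem_map]
        exact Or.inr ⟨r, hr, rfl⟩)
      rw [← hψ, Function.surjInv_eq hs] at h3
      exact h3
    rw [MonoidHom.mem_ker, ← hψ]
    apply h2
    rw [hfl] at hx
    exact hx

/-- tracked free products -/
theorem presOn_coprod {g : ι → A} {g' : κ → B} (h : PresOn g m) (h' : PresOn g' m') :
    PresOn (Sum.elim (fun i => (Monoid.Coprod.inl (g i) : Monoid.Coprod A B)) (fun j => Monoid.Coprod.inr (g' j)))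
      (m + m') := by
  classical
  obtain ⟨hs, R, hR, hk⟩ := h
  obtain ⟨hs', R', hR', hk'⟩ := h'
  set G' : ι ⊕ κ → Monoid.Coprod A B :=
    Sum.elim (fun i => (Monoid.Coprod.inl (g i) : Monoid.Coprod A B)) (fun j => Monoid.Coprod.inr (g' j)) with hG'
  have e1 : ∀ x, FreeGroup.lift G' (FreeGroup.map Sum.inl x) = Monoid.Coprod.inl (FreeGroup.lift g x) := by
    intro x
    have : (FreeGroup.lift G').comp (FreeGroup.map Sum.inl) = Monoid.Coprod.inl.comp (FreeGroup.lift g) := by
      ext i; simp [G']
    exact DFunLike.congr_fun this x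
  have e2 : ∀ x, FreeGroup.lift G' (FreeGroup.map Sum.inr x) = Monoid.Coprod.inr (FreeGroup.lift g' x) := by
    intro x
    have : (FreeGroup.lift G').comp (FreeGroup.map Sum.inr) = Monoid.Coprod.inr.comp (FreeGroup.lift g') := by
      ext i; simp [G']
    exact DFunLike.congr_fun this x
  have hsurj : Function.Surjective (FreeGroup.lift G') := by
    intro x
    induction x using Monoid.Coprod.induction_on with
    | inl a =>
      obtain ⟨y, rfl⟩ := hs a
      exact ⟨_, e1 y⟩
    | inr b =>
      obtain ⟨y, rfl⟩ := hs' b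
      exact ⟨_, e2 y⟩
    | mul x y hx hy =>
      obtain ⟨a, rfl⟩ := hx
      obtain ⟨b, rfl⟩ := hy
      exact ⟨a * b, map_mul _ _ _⟩
  have hlen : (R.toList.map (FreeGroup.map (Sum.inl : ι → ι ⊕ κ)) ++
      R'.toList.map (FreeGroup.map (Sum.inr : κ → ι ⊕ κ))).length ≤ m + m' := by
    simpa using add_le_add hR hR'
  refine (PresOn.of_list G' (closure_of_surj _ hsurj)
    (R.toList.map (FreeGroup.map (Sum.inl : ι → ι ⊕ κ)) ++
      R'.toList.map (FreeGroup.map (Sum.inr : κ → ι ⊕ κ))) ?_ ?_).mono hlen
  · intro r hr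
    simp only [List.mem_append, Finset.mem_toList, List.mem_map] at hr
    rcases hr with ⟨x, hx, rfl⟩ | ⟨x, hx, rfl⟩
    · rw [e1]
      have : x ∈ (FreeGroup.lift g).ker := by rw [hk]; exact Subgroup.subset_normalClosure hx
      rw [MonoidHom.mem_ker.1 this, map_one]
    · rw [e2]
      have : x ∈ (FreeGroup.lift g').ker := by rw [hk']; exact Subgroup.subset_normalClosure hx
      rw [MonoidHom.mem_ker.1 this, map_one]
  · intro φ hφ x hx
    have h1 : (FreeGroup.lift g).ker ≤ (φ.comp (FreeGroup.map Sum.inl)).ker := by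
      rw [hk]
      apply Subgroup.normalClosure_le_normal
      intro r hr
      exact hφ _ (by
        simp only [List.mem_append, Finset.mem_toList, List.mem_map]
        exact Or.inl ⟨r, hr, rfl⟩)
    have h2 : (FreeGroup.lift g').ker ≤ (φ.comp (FreeGroup.map Sum.inr)).ker := by
      rw [hk']
      apply Subgroup.normalClosure_le_normal
      intro r hr
      exact hφ _ (by
        simp only [List.mem_append, Finset.mem_toList, List.mem_map]
        exact Or.inr ⟨r, hr, rfl⟩)
    let ψ := (FreeGroup.lift g).liftOfSurjective hs ⟨_, h1⟩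
    have hψ : ∀ y, ψ (FreeGroup.lift g y) = φ (FreeGroup.map Sum.inl y) := fun y =>
      (FreeGroup.lift g).liftOfRightInverse_comp_apply _ _ ⟨_, h1⟩ y
    let ψ' := (FreeGroup.lift g').liftOfSurjective hs' ⟨_, h2⟩
    have hψ' : ∀ y, ψ' (FreeGroup.lift g' y) = φ (FreeGroup.map Sum.inr y) := fun y =>
      (FreeGroup.lift g').liftOfRightInverse_comp_apply _ _ ⟨_, h2⟩ y
    have e : (Monoid.Coprod.lift ψ ψ').comp (FreeGroup.lift G') = φ := by
      ext i
      rcases i with i | i
      · have := hψ (FreeGroup.of i)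
        rw [FreeGroup.lift_apply_of, FreeGroup.map.of] at this
        rw [MonoidHom.comp_apply, FreeGroup.lift_apply_of]
        simp only [G', Sum.elim_inl, Monoid.Coprod.lift_apply_inl]
        exact this
      · have := hψ' (FreeGroup.of i)
        rw [FreeGroup.lift_apply_of, FreeGroup.map.of] at this
        rw [MonoidHom.comp_apply, FreeGroup.lift_apply_of]
        simp only [G', Sum.elim_inr, Monoid.Coprod.lift_apply_inr]
        exact this
    rw [MonoidHom.mem_ker, ← e, MonoidHom.comp_apply, MonoidHom.mem_ker.1 hx, map_one]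

/-- the free group on its generators -/
theorem presOn_free (ι : Type*) : PresOn (FreeGroup.of : ι → FreeGroup ι) 0 := by
  refine ⟨?_, ∅, by simp, ?_⟩
  · rw [FreeGroup.lift_of_eq_id]; exact Function.surjective_id
  · rw [FreeGroup.lift_of_eq_id, Finset.coe_empty, Subgroup.normalClosure_empty]
    exact (MonoidHom.ker_eq_bot_iff _).2 Function.injective_id

/-- the form used below: one more generator, and the relators in `R` -/
theorem presOn_add_one {g : ι → A} (h : PresOn g m) (f : Monoid.Coprod A (FreeGroup (Fin 1)) →* G)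
    (hf : Function.Surjective f) (R : List (Monoid.Coprod A (FreeGroup (Fin 1))))
    (hk : f.ker = Subgroup.normalClosure {r | r ∈ R}) :
    PresOn (Sum.elim (fun i => f (Monoid.Coprod.inl (g i))) fun _ : Fin 1 => f (Monoid.Coprod.inr (FreeGroup.of 0)))
      (m + R.length) := by
  have h1 := presOn_quo (presOn_coprod h (presOn_free (Fin 1))) f hf R hk
  rw [add_zero] at h1
  convert h1 using 1
  ext i
  rcases i with i | i
  · rfl
  · have : i = 0 := Subsingleton.elim _ _
    subst this
    rfl

end

section cyclic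

variable {A G J : Type*} [Group A] [Group G] [Group J]

/-- Cyclic extensions, the core: `J = α(A) ⟨c⟩` with the relations of the extension maps injectively. -/
theorem cyclic_core [Finite A] (α : A →* J) (c : J) (hJ : α.range ⊔ Subgroup.zpowers c = ⊤) (θ : J →* G)
    (hθ : Function.Injective (θ.comp α)) {a b a' b' z : A} (hab : Subgroup.closure {a, b} = ⊤)
    {n : ℕ} (hn : 0 < n) (e1 : c * α a * c⁻¹ = α a') (e2 : c * α b * c⁻¹ = α b') (e3 : c ^ n = α z)
    (hj : ∀ j, 0 < j → j < n → ∀ x : A, θ c ^ j ≠ θ (α x)) : Function.Injective θ := by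
  have hfin : Finite α.range := inferInstanceAs (Finite (Set.range α))
  have hconj : ∀ x ∈ α.range, c * x * c⁻¹ ∈ α.range := by
    rintro _ ⟨x, rfl⟩
    have hx : x ∈ Subgroup.closure {a, b} := by rw [hab]; exact Subgroup.mem_top _
    induction hx using Subgroup.closure_induction with
    | mem x hx =>
      rcases hx with rfl | hx
      · rw [e1]; exact ⟨_, rfl⟩
      · rw [Set.mem_singleton_iff] at hx; subst hx
        rw [e2]; exact ⟨_, rfl⟩
    | one => rw [map_one, mul_one, mul_inv_cancel]; exact one_mem _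
    | mul x y hx hy h1 h2 =>
      have : c * α (x * y) * c⁻¹ = (c * α x * c⁻¹) * (c * α y * c⁻¹) := by
        rw [map_mul]; group
      rw [this]; exact mul_mem h1 h2
    | inv x hx h1 =>
      have : c * α x⁻¹ * c⁻¹ = (c * α x * c⁻¹)⁻¹ := by
        rw [map_inv]; group
      rw [this]; exact inv_mem h1
  -- conjugation by `c` is a bijection of the range
  have hmap : α.range.map (MulAut.conj c).toMonoidHom = α.range := by
    have hle : α.range.map (MulAut.conj c).toMonoidHom ≤ α.range := by
      rintro _ ⟨x, hx, rfl⟩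
      exact hconj x hx
    have hcard : Nat.card (α.range.map (MulAut.conj c).toMonoidHom) = Nat.card α.range :=
      Subgroup.card_map_of_injective (MulAut.conj c).injective
    exact Subgroup.eq_of_le_of_card_ge hle hcard.ge
  have hnorm : c ∈ Subgroup.normalizer (α.range : Set J) := by
    rw [Subgroup.mem_normalizer_iff]
    intro x
    constructor
    · exact hconj x
    · intro hx
      have hx' : c * x * c⁻¹ ∈ α.range.map (MulAut.conj c).toMonoidHom := by rw [hmap]; exact hx
      obtain ⟨y, hy, e⟩ := hx'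
      have : y = x := (MulAut.conj c).injective e
      rw [← this]; exact hy
  have hnt : α.range.Normal := by
    rw [← Subgroup.normalizer_eq_top_iff, eq_top_iff, ← hJ, sup_le_iff]
    exact ⟨Subgroup.le_normalizer, by rwa [Subgroup.zpowers_le]⟩
  -- every element is a product
  have hprod : ∀ y : J, ∃ x : A, ∃ k : ℤ, y = α x * c ^ k := by
    intro y
    have hy : y ∈ α.range ⊔ Subgroup.zpowers c := by rw [hJ]; exact Subgroup.mem_top _
    rw [Subgroup.mem_sup_of_normal_left] at hy
    obtain ⟨_, ⟨x, rfl⟩, _, ⟨k, rfl⟩, rfl⟩ := hy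
    exact ⟨x, k, rfl⟩
  have hprod' : ∀ y : J, ∃ x : A, ∃ k : ℕ, k < n ∧ y = α x * c ^ k := by
    intro y
    obtain ⟨x, k, h1⟩ := hprod y
    have hn' : (0 : ℤ) < n := by exact_mod_cast hn
    have h2 := Int.emod_nonneg k hn'.ne'
    have h3 := Int.emod_lt_of_pos k hn'
    refine ⟨x * z ^ (k / n), (k % n).toNat, by omega, ?_⟩
    rw [h1, map_mul, map_zpow, ← e3, mul_assoc]
    congr 1
    rw [← zpow_natCast c (k % n).toNat, Int.toNat_of_nonneg h2, ← zpow_natCast c n, ← zpow_mul, ← zpow_add,
      Int.mul_ediv_add_emod]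
  rw [injective_iff_map_eq_one]
  intro y hy
  obtain ⟨x, k, hk, rfl⟩ := hprod' y
  rw [map_mul, map_pow] at hy
  rcases Nat.eq_zero_or_pos k with rfl | hk0
  · rw [pow_zero, mul_one] at hy ⊢
    have h3 : x = 1 := hθ (by rw [map_one]; exact hy)
    rw [h3, map_one]
  · refine absurd ?_ (hj k hk0 hk x⁻¹)
    rw [map_inv, map_inv]
    exact (inv_eq_of_mul_eq_one_right hy).symm

theorem coprod_range_sup {B : Type*} [Group B] (φ : Monoid.Coprod A (FreeGroup (Fin 1)) →* B)
    (hφ : Function.Surjective φ) :
    (φ.comp Monoid.Coprod.inl).range ⊔ Subgroup.zpowers (φ (Monoid.Coprod.inr (FreeGroup.of 0))) = ⊤ := by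
  rw [eq_top_iff]
  rintro g -
  obtain ⟨x, rfl⟩ := hφ g
  induction x using Monoid.Coprod.induction_on with
  | inl a => exact Subgroup.mem_sup_left ⟨a, rfl⟩
  | inr y =>
    apply Subgroup.mem_sup_right
    induction y using FreeGroup.induction_on with
    | C1 => simp
    | of i =>
      have : i = 0 := Subsingleton.elim _ _
      subst this
      exact Subgroup.mem_zpowers _
    | inv_of i h => rw [map_inv, map_inv]; exact inv_mem h
    | mul y z hy hz => rw [map_mul, map_mul]; exact mul_mem hy hz
  | mul x y hx hy => rw [map_mul]; exact mul_mem hx hy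

/-- **Cyclic extensions.**  `A ≤ G` (via `i`) is finite and generated by two elements, `c` normalizes it, `G = A⟨c⟩` and
`n` is the order of `c` modulo `A`.  A presentation of `A` on the family `g` gives one of `G` on `g` and `c`, with three
more relators. -/
theorem cyclic_ext [Finite A] {ι : Type*} {g : ι → A} {m : ℕ} (h : PresOn g m) (i : A →* G)
    (hi : Function.Injective i) (c : G) (hG : i.range ⊔ Subgroup.zpowers c = ⊤)
    (hg : ∃ a b : A, Subgroup.closure {a, b} = ⊤) (hc : ∀ x : A, c * i x * c⁻¹ ∈ i.range)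
    {n : ℕ} (hn : 0 < n) (hz : c ^ n ∈ i.range) (hj : ∀ j, 0 < j → j < n → c ^ j ∉ i.range) :
    PresOn (Sum.elim (fun j => i (g j)) fun _ : Fin 1 => c) (m + 3) := by
  obtain ⟨a, b, hab⟩ := hg
  obtain ⟨a', ha'⟩ := hc a
  obtain ⟨b', hb'⟩ := hc b
  obtain ⟨z, hz⟩ := hz
  let f : Monoid.Coprod A (FreeGroup (Fin 1)) →* G := Monoid.Coprod.lift i (FreeGroup.lift fun _ => c)
  let cc : Monoid.Coprod A (FreeGroup (Fin 1)) := Monoid.Coprod.inr (FreeGroup.of 0)
  have hcc : f cc = c := by simp [f, cc]
  have hfl : ∀ σ, f (Monoid.Coprod.inl σ) = i σ := fun σ => by simp [f]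
  have hf : Function.Surjective f := by
    rw [← MonoidHom.range_eq_top, eq_top_iff, ← hG, sup_le_iff]
    constructor
    · rintro _ ⟨x, rfl⟩
      exact ⟨Monoid.Coprod.inl x, hfl x⟩
    · rw [Subgroup.zpowers_le]
      exact ⟨cc, hcc⟩
  have hk := ker_of_inj f
    [cc * Monoid.Coprod.inl a * cc⁻¹ * (Monoid.Coprod.inl a')⁻¹,
     cc * Monoid.Coprod.inl b * cc⁻¹ * (Monoid.Coprod.inl b')⁻¹,
     cc ^ n * (Monoid.Coprod.inl z)⁻¹] (by
      intro r hr
      simp only [List.mem_cons, List.not_mem_nil, or_false] at hr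
      rcases hr with rfl | rfl | rfl
      · rw [map_mul, map_mul, map_mul, map_inv, map_inv, mul_inv_eq_one, hcc, hfl, hfl, ha']
      · rw [map_mul, map_mul, map_mul, map_inv, map_inv, mul_inv_eq_one, hcc, hfl, hfl, hb']
      · rw [map_mul, map_pow, map_inv, mul_inv_eq_one, hcc, hfl, hz]) (by
      intro φ θ hφ hθ hR
      have e1 := hR _ (List.mem_cons_self)
      have e2 := hR _ (List.mem_cons_of_mem _ (List.mem_cons_self))
      have e3 := hR _ (List.mem_cons_of_mem _ (List.mem_cons_of_mem _ (List.mem_cons_self)))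
      rw [map_mul, map_mul, map_mul, map_inv, map_inv, mul_inv_eq_one] at e1 e2
      rw [map_mul, map_pow, map_inv, mul_inv_eq_one] at e3
      have hθi : ∀ x, θ (φ (Monoid.Coprod.inl x)) = i x := fun x => by rw [hθ, hfl]
      refine cyclic_core (φ.comp Monoid.Coprod.inl) (φ cc) (coprod_range_sup φ hφ) θ ?_ hab hn e1 e2 e3 ?_
      · intro x y hxy
        apply hi
        rw [← hθi, ← hθi]
        exact hxy
      · intro j hj0 hjn x hx
        apply hj j hj0 hjn
        refine ⟨x, ?_⟩
        rw [← hθi, ← hcc, ← hθ]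
        exact hx.symm)
  have h1 := presOn_add_one h f hf _ hk
  have e : (Sum.elim (fun j => i (g j)) fun _ : Fin 1 => c) =
      (Sum.elim (fun i => f (Monoid.Coprod.inl (g i))) fun _ : Fin 1 => f (Monoid.Coprod.inr (FreeGroup.of 0))) := by
    ext j
    rcases j with j | j
    · exact (hfl _).symm
    · exact hcc.symm
  rw [e]
  exact h1

end cyclic

end Cfsg.Agent.H110.Track
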