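import Cfsg.Agent.H110.Glue
import Cfsg.Agent.H111.Pres
import Cfsg.Agent.H110.Track

/-!
# The gluing theorem for presentations of alternating and symmetric groups (helper110, cluster S2284-S2297)

If `Alt (W + 2)` has a presentation with `k` generators and `m` relators and `W < N ≤ 2 W - 3` then `Alt (N + 2)` and
`Sym (N + 2)` have presentations with `k + 1` generators and `m + 3` relators.
-/

set_option autoImplicit false

namespace Cfsg.Agent.H110.GluePres

open Equiv Equiv.Perm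
open Cfsg.Agent.StdAlt.PermTypes (cyc cyc_conj cyc_inv cyc_rot cyc_mem_alt)
open Cfsg.Agent.H110.Perms Cfsg.Agent.H110.Chain Cfsg.Agent.H110.Glue
open Cfsg.Agent.H111 Cfsg.Agent.H173.Pres Cfsg.Agent.H110.Track

/-- the alternating group of `Pt N` is generated by the `xx i` -/
theorem eq_top_of_xx {N : ℕ} (hN : 1 ≤ N) (H : Subgroup (alternatingGroup (Pt N)))
    (h : ∀ i (hi : i < N), xx i hi ∈ H) : H = ⊤ := by
  refine Cfsg.Agent.StdAlt.Carm.eq_top_of_cyc (Ω := Pt N) (c := Sum.inr false) (d := Sum.inr true) (by simp)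
    (by simp; omega) H ?_
  rintro σ (i | b) h1 h2 hσ
  · have : σ = xx i.1 i.2 := Subtype.ext hσ
    rw [this]; exact h _ _
  · cases b <;> simp at h1 h2

/-- a subgroup of the permutation group which contains `xx 0` and `CC N ε` contains all `xx i` -/
theorem xx_mem {N : ℕ} (ε : ℕ) (H : Subgroup (Perm (Pt N))) (h0 : ∀ h : 0 < N, (xx 0 h : Perm (Pt N)) ∈ H)
    (hc : CC N ε ∈ H) (i : ℕ) (hi : i < N) : (xx i hi : Perm (Pt N)) ∈ H := by
  induction i with
  | zero => exact h0 _
  | succ i ih =>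
    have h1 := mul_mem (mul_mem hc (ih (by omega))) (inv_mem hc)
    rw [CC_conj_xx i hi] at h1
    have h2 := zpow_mem h1 ((((-1) ^ ε : ℤˣ)) : ℤ)
    rwa [← zpow_mul, ← Units.val_mul, Int.units_mul_self, Units.val_one, zpow_one] at h2

theorem alternating_le {N : ℕ} (hN : 1 ≤ N) (ε : ℕ) (H : Subgroup (Perm (Pt N)))
    (h0 : ∀ h : 0 < N, (xx 0 h : Perm (Pt N)) ∈ H) (hc : CC N ε ∈ H) : alternatingGroup (Pt N) ≤ H := by
  have := eq_top_of_xx hN (H.comap (alternatingGroup (Pt N)).subtype) (fun i hi => xx_mem ε H h0 hc i hi)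
  intro σ hσ
  have h1 : (⟨σ, hσ⟩ : alternatingGroup (Pt N)) ∈ H.comap (alternatingGroup (Pt N)).subtype := by
    rw [this]; exact Subgroup.mem_top _
  exact h1

/-- the shifted element exists -/
theorem exists_shift {W N : ℕ} (hWN : W < N) (hW : 2 ≤ W) (ε : ℕ) (ρ : alternatingGroup (Pt (W - 1))) :
    ∃ σ' : alternatingGroup (Pt W), ext hWN.le σ' = CC N ε * ext hWN.le (extA (Nat.sub_le W 1) ρ) * (CC N ε)⁻¹ := by
  let H : Subgroup (alternatingGroup (Pt (W - 1))) :=
    (((ext hWN.le).comp (alternatingGroup (Pt W)).subtype).range).comap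
      ((MulAut.conj (CC N ε)).toMonoidHom.comp ((ext hWN.le).comp
        ((alternatingGroup (Pt W)).subtype.comp (extA (Nat.sub_le W 1)))))
  have : H = ⊤ := by
    apply eq_top_of_xx (by omega)
    intro i hi
    refine ⟨(xx (i + 1) (by omega) ^ ((((-1) ^ ε : ℤˣ)) : ℤ)), ?_⟩
    change ext hWN.le ((xx (i + 1) (by omega) ^ ((((-1) ^ ε : ℤˣ)) : ℤ) : alternatingGroup (Pt W)) : Perm (Pt W)) =
      CC N ε * ext hWN.le (extA (Nat.sub_le W 1) (xx i hi)) * (CC N ε)⁻¹
    rw [extA_xx, ← coe_extA, ← coe_extA, map_zpow, extA_xx, extA_xx, Subgroup.coe_zpow, CC_conj_xx i (by omega)]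
  have h1 : ρ ∈ H := by rw [this]; exact Subgroup.mem_top _
  obtain ⟨σ', hσ'⟩ := h1
  exact ⟨σ', hσ'⟩

/-- the shifted element -/
noncomputable def sh {W N : ℕ} (hWN : W < N) (hW : 2 ≤ W) (ε : ℕ) (ρ : alternatingGroup (Pt (W - 1))) :
    alternatingGroup (Pt W) := (exists_shift hWN hW ε ρ).choose

theorem sh_spec {W N : ℕ} (hWN : W < N) (hW : 2 ≤ W) (ε : ℕ) (ρ : alternatingGroup (Pt (W - 1))) :
    ext hWN.le (sh hWN hW ε ρ) = CC N ε * ext hWN.le (extA (Nat.sub_le W 1) ρ) * (CC N ε)⁻¹ :=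
  (exists_shift hWN hW ε ρ).choose_spec

theorem sh_unique {W N : ℕ} (hWN : W < N) (hW : 2 ≤ W) (ε : ℕ) (ρ : alternatingGroup (Pt (W - 1)))
    {σ' : alternatingGroup (Pt W)}
    (h : ext hWN.le σ' = CC N ε * ext hWN.le (extA (Nat.sub_le W 1) ρ) * (CC N ε)⁻¹) : σ' = sh hWN hW ε ρ := by
  rw [← sh_spec hWN hW] at h
  exact Subtype.ext (ext_injective _ h)

theorem sh_mul {W N : ℕ} (hWN : W < N) (hW : 2 ≤ W) (ε : ℕ) (ρ ρ' : alternatingGroup (Pt (W - 1))) :
    sh hWN hW ε (ρ * ρ') = sh hWN hW ε ρ * sh hWN hW ε ρ' := by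
  symm
  apply sh_unique
  rw [Subgroup.coe_mul, map_mul, sh_spec, sh_spec, map_mul, Subgroup.coe_mul, map_mul]
  group

theorem sh_one {W N : ℕ} (hWN : W < N) (hW : 2 ≤ W) (ε : ℕ) : sh hWN hW ε 1 = 1 := by
  symm
  apply sh_unique
  rw [map_one]
  simp

theorem sh_inv {W N : ℕ} (hWN : W < N) (hW : 2 ≤ W) (ε : ℕ) (ρ : alternatingGroup (Pt (W - 1))) :
    sh hWN hW ε ρ⁻¹ = (sh hWN hW ε ρ)⁻¹ := by
  apply eq_inv_of_mul_eq_one_left
  rw [← sh_mul, inv_mul_cancel, sh_one]

/-- it is enough to know the action on generators -/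
theorem acts_of {W N : ℕ} (hWN : W < N) (hW : 2 ≤ W) {J : Type*} [Group J] {φ : alternatingGroup (Pt W) →* J} {c : J}
    {ε : ℕ} {a b : alternatingGroup (Pt (W - 1))} (hab : Subgroup.closure {a, b} = ⊤)
    (ha : c * φ (extA (Nat.sub_le W 1) a) * c⁻¹ = φ (sh hWN hW ε a))
    (hb : c * φ (extA (Nat.sub_le W 1) b) * c⁻¹ = φ (sh hWN hW ε b)) : Acts hWN φ c ε := by
  intro ρ σ' hσ'
  rw [sh_unique hWN hW ε ρ hσ']
  clear hσ' σ'
  have hρ : ρ ∈ Subgroup.closure {a, b} := by rw [hab]; exact Subgroup.mem_top _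
  induction hρ using Subgroup.closure_induction with
  | mem x hx =>
    rcases hx with rfl | hx
    · exact ha
    · rw [Set.mem_singleton_iff] at hx; subst hx; exact hb
  | one => rw [map_one, map_one, sh_one, map_one]; group
  | mul x y hx hy h1 h2 =>
    rw [map_mul, map_mul, sh_mul, map_mul, ← h1, ← h2]; group
  | inv x hx h1 =>
    rw [map_inv, map_inv, sh_inv, map_inv, ← h1]; group

theorem coprod_range {A : Type*} [Group A] {J : Type*} [Group J] (φ : Monoid.Coprod A (FreeGroup (Fin 1)) →* J)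
    (hφ : Function.Surjective φ) :
    (φ.comp Monoid.Coprod.inl).range ⊔ Subgroup.zpowers (φ (Monoid.Coprod.inr (FreeGroup.of 0))) = ⊤ := by
  rw [eq_top_iff]
  rintro g -
  obtain ⟨x, rfl⟩ := hφ g
  induction x using Monoid.Coprod.induction_on with
  | inl a => exact Subgroup.mem_sup_left ⟨a, rfl⟩
  | inr y =>
    apply Subgroup.mem_sup_right
    induction y using FreeGroup.induction_on with
    | C1 => simp
    | of i =>
      have : i = 0 := Subsingleton.elim _ _
      subst this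
      exact Subgroup.mem_zpowers _
    | inv_of i h => rw [map_inv, map_inv]; exact inv_mem h
    | mul y z hy hz => rw [map_mul, map_mul]; exact mul_mem hy hz
  | mul x y hx hy => rw [map_mul]; exact mul_mem hx hy

theorem commute_kap_swap {N : ℕ} {i j : ℕ} (h : i < N) (h' : j < N) :
    Commute (kap N) (swap (pt i h) (pt j h')) :=
  commute_kap fun b => swap_apply_of_ne_of_ne (by simp [pt]) (by simp [pt])

theorem kap_pow_even {N k : ℕ} (h : Even k) : kap N ^ k = 1 := by
  obtain ⟨r, rfl⟩ := h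
  rw [← two_mul, pow_mul, pow_two, kap_sq, one_pow]

theorem CC_pow (N ε : ℕ) : CC N ε ^ N = kap N ^ (ε * N) := by
  unfold CC
  have h : Commute (rot N) (kap N ^ ε) := ((commute_kap rot_inr).pow_left ε).symm
  rw [h.mul_pow, rot_pow, one_mul, pow_mul]

/-- the relation for the alternating group -/
theorem rel_alt {N : ℕ} (hN : 1 < N) :
    ((ss 0 (by omega) : alternatingGroup (Pt N)) * CC N (N - 1)) ^ (N - 1) = CC N (N - 1) ^ N := by
  obtain ⟨ρ, h1, h2, h3⟩ := rot_eq2 hN
  rw [CC_pow, coe_ss]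
  have h4 : swap (pt 0 (by omega)) (pt (0 + 1) (by omega)) * kap N * CC N (N - 1) = ρ * kap N ^ N := by
    unfold CC
    rw [h1]
    have h5 := (commute_kap_swap (N := N) (i := 0) (j := 1) (by omega) (by omega)).eq
    calc swap (pt 0 (by omega)) (pt 1 (by omega)) * kap N * (swap (pt 0 (by omega)) (pt 1 (by omega)) * ρ *
          kap N ^ (N - 1))
        = swap (pt 0 (by omega)) (pt 1 (by omega)) * (kap N * swap (pt 0 (by omega)) (pt 1 (by omega))) * ρ *
          kap N ^ (N - 1) := by group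
      _ = swap (pt 0 (by omega)) (pt 1 (by omega)) * swap (pt 0 (by omega)) (pt 1 (by omega)) * (kap N * ρ) *
          kap N ^ (N - 1) := by rw [h5]; group
      _ = ρ * (kap N * kap N ^ (N - 1)) := by rw [swap_mul_self, one_mul, h3.eq]; group
      _ = ρ * kap N ^ N := by rw [← pow_succ', Nat.sub_add_cancel (by omega)]
  rw [h4]
  have h6 : Commute ρ (kap N ^ N) := (h3.pow_left N).symm
  rw [h6.mul_pow, h2, one_mul, ← pow_mul, mul_comm (N - 1) N]

/-- the relation for the symmetric group -/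
theorem rel_sym {N : ℕ} (hN : 2 < N) :
    (((tt 0 (by omega) : alternatingGroup (Pt N)) : Perm (Pt N))⁻¹ * CC N N) ^ (N - 2) = CC N N ^ N := by
  obtain ⟨ρ, h1, h2, h3⟩ := rot_eq3 hN
  rw [CC_pow]
  have h4 : ((tt 0 (by omega) : alternatingGroup (Pt N)) : Perm (Pt N))⁻¹ * CC N N = ρ * kap N ^ N := by
    unfold CC
    rw [h1]
    unfold tt
    group
  rw [h4]
  have h6 : Commute ρ (kap N ^ N) := (h3.pow_left N).symm
  rw [h6.mul_pow, h2, one_mul, ← pow_mul]
  obtain ⟨M, rfl⟩ : ∃ M, N = M + 2 := ⟨N - 2, by omega⟩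
  have : (M + 2) * (M + 2) = (M + 2) * (M + 2 - 2) + 2 * (M + 2) := by
    rw [Nat.add_sub_cancel]; ring
  rw [this, pow_add, kap_pow_even (k := 2 * (M + 2)) (even_two_mul _), mul_one]

theorem sign_CC {N : ℕ} (h : 0 < N) (ε : ℕ) : sign (CC N ε) = (-1) ^ (N - 1 + ε) := by
  unfold CC
  rw [map_mul, map_pow, sign_rot h, sign_kap, pow_add]

theorem CC_mem {N : ℕ} (h : 0 < N) : CC N (N - 1) ∈ alternatingGroup (Pt N) := by
  rw [mem_alternatingGroup, sign_CC h, ← two_mul, pow_mul]
  simp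

theorem sign_CC_sym {N : ℕ} (h : 0 < N) : sign (CC N N) = -1 := by
  rw [sign_CC h]
  obtain ⟨M, rfl⟩ : ∃ M, N = M + 1 := ⟨N - 1, by omega⟩
  rw [Nat.add_sub_cancel, show M + (M + 1) = 2 * M + 1 by ring, pow_succ, pow_mul]
  simp

section main

variable {W N k m : ℕ} {ι : Type*}

/-- the added generator, alternating groups -/
def CA (h : W < N) : alternatingGroup (Pt N) := ⟨CC N (N - 1), CC_mem (by omega)⟩

/-- **Gluing, alternating groups**, on given generators. -/
theorem alt_on {g : ι → alternatingGroup (Pt W)} (hWN : W < N) (hN : N + 3 ≤ 2 * W) (h : PresOn g m)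
    (hg : ∃ a b : alternatingGroup (Pt (W - 1)), Subgroup.closure {a, b} = ⊤) :
    PresOn (Sum.elim (fun j => extA hWN.le (g j)) fun _ : Fin 1 => CA hWN) (m + 3) := by
  obtain ⟨a, b, hab⟩ := hg
  have hW : 2 ≤ W := by omega
  let f : Monoid.Coprod (alternatingGroup (Pt W)) (FreeGroup (Fin 1)) →* alternatingGroup (Pt N) :=
    Monoid.Coprod.lift (extA hWN.le) (FreeGroup.lift fun _ => CA hWN)
  let cc : Monoid.Coprod (alternatingGroup (Pt W)) (FreeGroup (Fin 1)) := Monoid.Coprod.inr (FreeGroup.of 0)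
  have hcc : f cc = CA hWN := by simp [f, cc]
  have hfl : ∀ σ, f (Monoid.Coprod.inl σ) = extA hWN.le σ := fun σ => by simp [f]
  let R : List (Monoid.Coprod (alternatingGroup (Pt W)) (FreeGroup (Fin 1))) :=
    [cc * Monoid.Coprod.inl (extA (Nat.sub_le W 1) a) * cc⁻¹ * (Monoid.Coprod.inl (sh hWN hW (N - 1) a))⁻¹,
     cc * Monoid.Coprod.inl (extA (Nat.sub_le W 1) b) * cc⁻¹ * (Monoid.Coprod.inl (sh hWN hW (N - 1) b))⁻¹,
     (Monoid.Coprod.inl (ss 0 (by omega)) * cc) ^ (N - 1) * (cc ^ N)⁻¹]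
  have hf : Function.Surjective f := by
    rw [← MonoidHom.range_eq_top]
    apply eq_top_of_xx (by omega)
    intro i hi
    have hle := alternating_le (N := N) (by omega) (N - 1) (f.range.map (alternatingGroup (Pt N)).subtype)
      (fun h0 => ⟨_, ⟨Monoid.Coprod.inl (xx 0 (by omega)), rfl⟩, by rw [hfl, extA_xx]; rfl⟩)
      ⟨_, ⟨cc, rfl⟩, by rw [hcc]; rfl⟩
    obtain ⟨y, hy, hy'⟩ := hle (xx i hi).2
    have : y = xx i hi := Subtype.ext hy'
    rwa [this] at hy
  have hk : f.ker = Subgroup.normalClosure {r | r ∈ R} := by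
    refine ker_of_inj f R ?_ ?_
    · intro r hr
      simp only [R, List.mem_cons, List.not_mem_nil, or_false] at hr
      rcases hr with rfl | rfl | rfl
      · rw [map_mul, map_mul, map_mul, map_inv, map_inv, hcc, hfl, hfl, mul_inv_eq_one]
        apply Subtype.ext
        exact (sh_spec hWN hW (N - 1) a).symm
      · rw [map_mul, map_mul, map_mul, map_inv, map_inv, hcc, hfl, hfl, mul_inv_eq_one]
        apply Subtype.ext
        exact (sh_spec hWN hW (N - 1) b).symm
      · rw [map_mul, map_pow, map_mul, map_inv, map_pow, hcc, hfl, mul_inv_eq_one, extA_ss]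
        apply Subtype.ext
        exact rel_alt (by omega)
    · intro φ θ hφ hθ hR
      have e1 := hR _ (List.mem_cons_self)
      have e2 := hR _ (List.mem_cons_of_mem _ (List.mem_cons_self))
      have e3 := hR _ (List.mem_cons_of_mem _ (List.mem_cons_of_mem _ (List.mem_cons_self)))
      rw [map_mul, map_mul, map_mul, map_inv, map_inv, mul_inv_eq_one] at e1 e2
      rw [map_mul, map_pow, map_mul, map_inv, map_pow, mul_inv_eq_one] at e3
      obtain ⟨Φ, hΦ⟩ := alt_surj (φ := φ.comp Monoid.Coprod.inl) (c := φ cc) (ε := N - 1) hWN hN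
        (acts_of hWN hW hab e1 e2) e3 (coprod_range φ hφ)
      have hs : Function.Surjective (θ.comp Φ) := by
        have : Function.Surjective θ := by
          intro y
          obtain ⟨x, hx⟩ := hf y
          exact ⟨φ x, by rw [hθ, hx]⟩
        exact this.comp hΦ
      have hi : Function.Injective (θ.comp Φ) := Finite.injective_iff_surjective.2 hs
      intro x y hxy
      obtain ⟨x', rfl⟩ := hΦ x
      obtain ⟨y', rfl⟩ := hΦ y
      rw [hi hxy]
  have h1 := presOn_add_one h f hf R hk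
  have e : (Sum.elim (fun j => extA hWN.le (g j)) fun _ : Fin 1 => CA hWN) =
      (Sum.elim (fun i => f (Monoid.Coprod.inl (g i))) fun _ : Fin 1 => f (Monoid.Coprod.inr (FreeGroup.of 0))) := by
    ext1 j
    rcases j with j | j
    · exact (hfl _).symm
    · exact hcc.symm
  rw [e]
  exact h1

/-- **Gluing, symmetric groups**, on given generators. -/
theorem sym_on {g : ι → alternatingGroup (Pt W)} (hWN : W < N) (hN : N + 3 ≤ 2 * W) (h : PresOn g m)
    (hg : ∃ a b : alternatingGroup (Pt (W - 1)), Subgroup.closure {a, b} = ⊤) :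
    PresOn (Sum.elim (fun j => (extA hWN.le (g j) : Perm (Pt N))) fun _ : Fin 1 => CC N N) (m + 3) := by
  obtain ⟨a, b, hab⟩ := hg
  have hW : 2 ≤ W := by omega
  let C : Perm (Pt N) := CC N N
  let f : Monoid.Coprod (alternatingGroup (Pt W)) (FreeGroup (Fin 1)) →* Perm (Pt N) :=
    Monoid.Coprod.lift ((alternatingGroup (Pt N)).subtype.comp (extA hWN.le)) (FreeGroup.lift fun _ => C)
  let cc : Monoid.Coprod (alternatingGroup (Pt W)) (FreeGroup (Fin 1)) := Monoid.Coprod.inr (FreeGroup.of 0)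
  have hcc : f cc = C := by simp [f, cc]
  have hfl : ∀ σ, f (Monoid.Coprod.inl σ) = (extA hWN.le σ : Perm (Pt N)) := fun σ => by simp [f]
  let R : List (Monoid.Coprod (alternatingGroup (Pt W)) (FreeGroup (Fin 1))) :=
    [cc * Monoid.Coprod.inl (extA (Nat.sub_le W 1) a) * cc⁻¹ * (Monoid.Coprod.inl (sh hWN hW N a))⁻¹,
     cc * Monoid.Coprod.inl (extA (Nat.sub_le W 1) b) * cc⁻¹ * (Monoid.Coprod.inl (sh hWN hW N b))⁻¹,
     ((Monoid.Coprod.inl (tt 0 (by omega)))⁻¹ * cc) ^ (N - 2) * (cc ^ N)⁻¹]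
  have hf : Function.Surjective f := by
    have hle := alternating_le (N := N) (by omega) N f.range
      (fun h0 => ⟨Monoid.Coprod.inl (xx 0 (by omega)), by rw [hfl, extA_xx]⟩)
      ⟨cc, hcc⟩
    rw [← MonoidHom.range_eq_top, eq_top_iff]
    intro σ _
    rcases Int.units_eq_one_or (sign σ) with h1 | h1
    · exact hle (mem_alternatingGroup.2 h1)
    · have h2 : σ * C⁻¹ ∈ f.range := by
        apply hle
        rw [mem_alternatingGroup, map_mul, map_inv, h1, sign_CC_sym (by omega)]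
        simp
      have h3 := mul_mem h2 (⟨cc, hcc⟩ : C ∈ f.range)
      rwa [inv_mul_cancel_right] at h3
  have hk : f.ker = Subgroup.normalClosure {r | r ∈ R} := by
    refine ker_of_inj f R ?_ ?_
    · intro r hr
      simp only [R, List.mem_cons, List.not_mem_nil, or_false] at hr
      rcases hr with rfl | rfl | rfl
      · rw [map_mul, map_mul, map_mul, map_inv, map_inv, hcc, hfl, hfl, mul_inv_eq_one]
        exact (sh_spec hWN hW N a).symm
      · rw [map_mul, map_mul, map_mul, map_inv, map_inv, hcc, hfl, hfl, mul_inv_eq_one]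
        exact (sh_spec hWN hW N b).symm
      · rw [map_mul, map_pow, map_mul, map_inv, map_inv, map_pow, hcc, hfl, mul_inv_eq_one, extA_tt]
        exact rel_sym (by omega)
    · intro φ θ hφ hθ hR
      have e1 := hR _ (List.mem_cons_self)
      have e2 := hR _ (List.mem_cons_of_mem _ (List.mem_cons_self))
      have e3 := hR _ (List.mem_cons_of_mem _ (List.mem_cons_of_mem _ (List.mem_cons_self)))
      rw [map_mul, map_mul, map_mul, map_inv, map_inv, mul_inv_eq_one] at e1 e2
      rw [map_mul, map_pow, map_mul, map_inv, map_inv, map_pow, mul_inv_eq_one] at e3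
      obtain ⟨hfin, hcard⟩ := sym_card (φ := φ.comp Monoid.Coprod.inl) (c := φ cc) (ε := N) hWN hN
        (acts_of hWN hW hab e1 e2) e3 (coprod_range φ hφ)
      have hs : Function.Surjective θ := by
        intro y
        obtain ⟨x, hx⟩ := hf y
        exact ⟨φ x, by rw [hθ, hx]⟩
      have : Nontrivial (Pt N) := ⟨⟨Sum.inr false, Sum.inr true, by simp⟩⟩
      have hA : 2 * Nat.card (alternatingGroup (Pt N)) = Nat.card (Perm (Pt N)) := two_mul_nat_card_alternatingGroup
      rw [hA] at hcard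
      have hbij := hs.bijective_of_nat_card_le (by exact hcard)
      exact hbij.injective
  have h1 := presOn_add_one h f hf R hk
  have e : (Sum.elim (fun j => (extA hWN.le (g j) : Perm (Pt N))) fun _ : Fin 1 => CC N N) =
      (Sum.elim (fun i => f (Monoid.Coprod.inl (g i))) fun _ : Fin 1 => f (Monoid.Coprod.inr (FreeGroup.of 0))) := by
    ext1 j
    rcases j with j | j
    · exact (hfl _).symm
    · exact hcc.symm
  rw [e]
  exact h1

/-- from a tracked presentation on `Fin k ⊕ Fin 1` -/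
theorem hasPres_succ_of_presOn {G : Type*} [Group G] {g : Fin k ⊕ Fin 1 → G} (h : PresOn g m) : HasPres G (k + 1) m :=
  (h.reindex (finSumFinEquiv (m := k) (n := 1)).symm).hasPres

/-- **Gluing, alternating groups.** -/
theorem alt (hWN : W < N) (hN : N + 3 ≤ 2 * W) (h : HasPres (alternatingGroup (Pt W)) k m)
    (hg : ∃ a b : alternatingGroup (Pt (W - 1)), Subgroup.closure {a, b} = ⊤) :
    HasPres (alternatingGroup (Pt N)) (k + 1) (m + 3) := by
  obtain ⟨g, h⟩ := exists_presOn h
  exact hasPres_succ_of_presOn (alt_on hWN hN h hg)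

/-- **Gluing, symmetric groups.** -/
theorem sym (hWN : W < N) (hN : N + 3 ≤ 2 * W) (h : HasPres (alternatingGroup (Pt W)) k m)
    (hg : ∃ a b : alternatingGroup (Pt (W - 1)), Subgroup.closure {a, b} = ⊤) :
    HasPres (Perm (Pt N)) (k + 1) (m + 3) := by
  obtain ⟨g, h⟩ := exists_presOn h
  exact hasPres_succ_of_presOn (sym_on hWN hN h hg)

end main

end Cfsg.Agent.H110.GluePres
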